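import Mathlib
import Cfsg.Agent.TcChain36.Fi23.Top.Step
import Cfsg.Agent.TcChain36.Fi23.Y332.Step
import Cfsg.Agent.TcChain36.Fi23.Y232.Step
import Cfsg.Agent.TcChain36.Fi23.Y222.Step
import Cfsg.Agent.TcChain36.Fi23.E6.Step
import Cfsg.Agent.TcChain36.Fi23.D5.Step

set_option autoImplicit false
set_option maxRecDepth 100000
set_option linter.all false

namespace Cfsg.Agent.TcChain36.Fi23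

open Cfsg.Spor Cfsg.Agent.Lib.TcFacts Cfsg.Agent.Lib.TcBits Cfsg.Agent.Lib.TcPres Cfsg.Agent.Lib.PresChain36

theorem bound_0 : Nat.card (KL RT ([] : List Cfsg.Spor.Fi23.Gen)) ≤ 1 ∧ Nat.card (KL RT ([] : List Cfsg.Spor.Fi23.Gen)) ≠ 0 := bound_nil RT

theorem bound_1 : Nat.card (KL RT ([Cfsg.Spor.Fi23.Gen.c, Cfsg.Spor.Fi23.Gen.d, Cfsg.Spor.Fi23.Gen.e, Cfsg.Spor.Fi23.Gen.f, Cfsg.Spor.Fi23.Gen.h] : List Cfsg.Spor.Fi23.Gen)) ≤ (1920 * 1) ∧ Nat.card (KL RT ([Cfsg.Spor.Fi23.Gen.c, Cfsg.Spor.Fi23.Gen.d, Cfsg.Spor.Fi23.Gen.e, Cfsg.Spor.Fi23.Gen.f, Cfsg.Spor.Fi23.Gen.h] : List Cfsg.Spor.Fi23.Gen)) ≠ 0 :=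
  bound_step D5.step bound_0

theorem bound_2 : Nat.card (KL RT ([Cfsg.Spor.Fi23.Gen.c, Cfsg.Spor.Fi23.Gen.d, Cfsg.Spor.Fi23.Gen.e, Cfsg.Spor.Fi23.Gen.f, Cfsg.Spor.Fi23.Gen.h, Cfsg.Spor.Fi23.Gen.i] : List Cfsg.Spor.Fi23.Gen)) ≤ (27 * (1920 * 1)) ∧ Nat.card (KL RT ([Cfsg.Spor.Fi23.Gen.c, Cfsg.Spor.Fi23.Gen.d, Cfsg.Spor.Fi23.Gen.e, Cfsg.Spor.Fi23.Gen.f, Cfsg.Spor.Fi23.Gen.h, Cfsg.Spor.Fi23.Gen.i] : List Cfsg.Spor.Fi23.Gen)) ≠ 0 :=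
  bound_step E6.step bound_1

theorem bound_3 : Nat.card (KL RT ([Cfsg.Spor.Fi23.Gen.b, Cfsg.Spor.Fi23.Gen.c, Cfsg.Spor.Fi23.Gen.d, Cfsg.Spor.Fi23.Gen.e, Cfsg.Spor.Fi23.Gen.f, Cfsg.Spor.Fi23.Gen.h, Cfsg.Spor.Fi23.Gen.i] : List Cfsg.Spor.Fi23.Gen)) ≤ (243 * (27 * (1920 * 1))) ∧ Nat.card (KL RT ([Cfsg.Spor.Fi23.Gen.b, Cfsg.Spor.Fi23.Gen.c, Cfsg.Spor.Fi23.Gen.d, Cfsg.Spor.Fi23.Gen.e, Cfsg.Spor.Fi23.Gen.f, Cfsg.Spor.Fi23.Gen.h, Cfsg.Spor.Fi23.Gen.i] : List Cfsg.Spor.Fi23.Gen)) ≠ 0 :=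
  bound_step Y222.step bound_2

theorem bound_4 : Nat.card (KL RT ([Cfsg.Spor.Fi23.Gen.b, Cfsg.Spor.Fi23.Gen.c, Cfsg.Spor.Fi23.Gen.d, Cfsg.Spor.Fi23.Gen.e, Cfsg.Spor.Fi23.Gen.f, Cfsg.Spor.Fi23.Gen.g, Cfsg.Spor.Fi23.Gen.h, Cfsg.Spor.Fi23.Gen.i] : List Cfsg.Spor.Fi23.Gen)) ≤ (728 * (243 * (27 * (1920 * 1)))) ∧ Nat.card (KL RT ([Cfsg.Spor.Fi23.Gen.b, Cfsg.Spor.Fi23.Gen.c, Cfsg.Spor.Fi23.Gen.d, Cfsg.Spor.Fi23.Gen.e, Cfsg.Spor.Fi23.Gen.f, Cfsg.Spor.Fi23.Gen.g, Cfsg.Spor.Fi23.Gen.h, Cfsg.Spor.Fi23.Gen.i] : List Cfsg.Spor.Fi23.Gen)) ≠ 0 :=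
  bound_step Y232.step bound_3

theorem bound_5 : Nat.card (KL RT ([Cfsg.Spor.Fi23.Gen.a, Cfsg.Spor.Fi23.Gen.b, Cfsg.Spor.Fi23.Gen.c, Cfsg.Spor.Fi23.Gen.d, Cfsg.Spor.Fi23.Gen.e, Cfsg.Spor.Fi23.Gen.f, Cfsg.Spor.Fi23.Gen.g, Cfsg.Spor.Fi23.Gen.h, Cfsg.Spor.Fi23.Gen.i] : List Cfsg.Spor.Fi23.Gen)) ≤ (14080 * (728 * (243 * (27 * (1920 * 1))))) ∧ Nat.card (KL RT ([Cfsg.Spor.Fi23.Gen.a, Cfsg.Spor.Fi23.Gen.b, Cfsg.Spor.Fi23.Gen.c, Cfsg.Spor.Fi23.Gen.d, Cfsg.Spor.Fi23.Gen.e, Cfsg.Spor.Fi23.Gen.f, Cfsg.Spor.Fi23.Gen.g, Cfsg.Spor.Fi23.Gen.h, Cfsg.Spor.Fi23.Gen.i] : List Cfsg.Spor.Fi23.Gen)) ≠ 0 :=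
  bound_step Y332.step bound_4

theorem bound_6 : Nat.card (KL RT ([Cfsg.Spor.Fi23.Gen.a, Cfsg.Spor.Fi23.Gen.b, Cfsg.Spor.Fi23.Gen.c, Cfsg.Spor.Fi23.Gen.d, Cfsg.Spor.Fi23.Gen.e, Cfsg.Spor.Fi23.Gen.f, Cfsg.Spor.Fi23.Gen.g, Cfsg.Spor.Fi23.Gen.j, Cfsg.Spor.Fi23.Gen.h, Cfsg.Spor.Fi23.Gen.i] : List Cfsg.Spor.Fi23.Gen)) ≤ (31671 * (14080 * (728 * (243 * (27 * (1920 * 1)))))) ∧ Nat.card (KL RT ([Cfsg.Spor.Fi23.Gen.a, Cfsg.Spor.Fi23.Gen.b, Cfsg.Spor.Fi23.Gen.c, Cfsg.Spor.Fi23.Gen.d, Cfsg.Spor.Fi23.Gen.e, Cfsg.Spor.Fi23.Gen.f, Cfsg.Spor.Fi23.Gen.g, Cfsg.Spor.Fi23.Gen.j, Cfsg.Spor.Fi23.Gen.h, Cfsg.Spor.Fi23.Gen.i] : List Cfsg.Spor.Fi23.Gen)) ≠ 0 :=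
  bound_step Top.step bound_5

theorem hallT : ∀ x : Cfsg.Spor.Fi23.Gen, x ∈ ([Cfsg.Spor.Fi23.Gen.a, Cfsg.Spor.Fi23.Gen.b, Cfsg.Spor.Fi23.Gen.c, Cfsg.Spor.Fi23.Gen.d, Cfsg.Spor.Fi23.Gen.e, Cfsg.Spor.Fi23.Gen.f, Cfsg.Spor.Fi23.Gen.g, Cfsg.Spor.Fi23.Gen.j, Cfsg.Spor.Fi23.Gen.h, Cfsg.Spor.Fi23.Gen.i] : List Cfsg.Spor.Fi23.Gen) := by
  intro x; cases x <;> decide

theorem upper : Nat.card (PresentedGroup RT) ≤ 4089470473293004800 ∧ Finite (PresentedGroup RT) := by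
  have h := finite_of_bound hallT bound_6
  exact ⟨h.1.trans (by norm_num), h.2⟩

end Cfsg.Agent.TcChain36.Fi23
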