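import Mathlib
import Cfsg.Agent.TcData.Fi23.I31671.Rep
import Cfsg.Agent.TcChain36.Fi23.Upper

set_option autoImplicit false
set_option maxRecDepth 100000
set_option linter.all false

namespace Cfsg.Agent.TcChain36.Fi23

open Cfsg.Spor Cfsg.Agent.Lib.TcFacts Cfsg.Agent.Lib.TcBits Cfsg.Agent.Lib.TcPres Cfsg.Agent.Lib.PresChain36
open Cfsg.Spor.Fi23 Cfsg.Agent.TcData.Fi23 Cfsg.Agent.TcData.Fi23.I31671
set_option Elab.async false

/-- A word of the free group. -/
noncomputable def W (l : List (Cfsg.Spor.Fi23.Gen × Bool)) : FreeGroup Cfsg.Spor.Fi23.Gen := FreeGroup.mk l

instance finG : Finite (PresentedGroup RR) := upper.2

/-- The words of level 0. -/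
noncomputable def rs0 : List (FreeGroup Cfsg.Spor.Fi23.Gen) := [
  W [(.a, true)],
  W [(.b, true)],
  W [(.c, true)],
  W [(.d, true)],
  W [(.e, true)],
  W [(.f, true)],
  W [(.g, true)],
  W [(.j, true)],
  W [(.h, true)],
  W [(.i, true)]]

/-- The mask of level 0. -/
def M0 : ℕ := nat_lit 0x7ffffffffffffffffffffffffffffffffffffffffffffffffffffffffffffffffffffffffffffffffffffffffffffffffffffffffffffffffffffffffffffffffffffffffffffffffffffffffffffffffffffffffffffffffffffffffffffffffffffffffffffffffffffffffffffffffffffffffffffffffffffffffffffffffffffffffffffffffffffffffffffffffffffffffffffffffffffffffffffffffffffffffffffffffffffffffffffffffffffffffffffffffffffffffffffffffffffffffffffffffffffffffffffffffffffffffffffffffffffffffffffffffffffffffffffffffffffffffffffffffffffffffffffffffffffffffffffffffffffffffffffffffffffffffffffffffffffffffffffffffffffffffffffffffffffffffffffffffffffffffffffffffffffffffffffffffffffffffffffffffffffffffffffffffffffffffffffffffffffffffffffffffffffffffffffffffffffffffffffffffffffffffffffffffffffffffffffffffffffffffffffffffffffffffffffffffffffffffffffffffffffffffffffffffffffffffffffffffffffffffffffffffffffffffffffffffffffffffffffffffffffffffffffffffffffffffffffffffffffffffffffffffffffffffffffffffffffffffffffffff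ffffffffffffffffffffffffffffffffffffffffffffffffffffffffffffffffffffffffffffffffffffffffffffffffffffffffffffffffffffffffffffffffffffffffffffffffffffffffffffffffffffffffffffffffffffffffffffffffffffffffffffffffffffffffffffffffffffffffffffffffffffffffffffffffffffffffffffffffffffffffffffffffffffffffffffffffffffffffffffffffffffffffffffffffffffffffffffffffffffffffffffffffffffffffffffffffffffffffffffffffffffffffffffffffffffffffffffffffffffffffffffffffffffffffffffffffffffffffffffffffffffffffffffffffffffffffffffffffffffffffffffffffffffffffffffffffffffffffffffffffffffffffffffffffffffffffffffffffffffffffffffffffffffffffffffffffffffffffffffffffffffffffffffffffffffffffffffffffffffffffffffffffffffffffffffffffffffffffffffffffffffffffffffffffffffffffffffffffffffffffffffffffffffffffffffffffffffffffffffffffffffffffffffffffffffffffffffffffffffffffffffffffffffffffffffffffffffffffffffffffffffffffffffffffffffffffffffffffffffffffffffffffffffffffffffffffffffffffffffffffffffffffffffffffffffffffffffffffffffffffffffffffffffffffffffffffffffffffffffffffffffffffffffffffffffffffffffffffffffffffffffffffffffffffffffffffffffffffffffffffffffffffffffffffffffffffffffffffffffffffffffffffffffffffffffffffffffffffffffffffffffffffffffffffffffffffffffffffffffffffffffffffffffffffffff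ffffffffffffffffffffffffffffffffffffffffffffffffffffffffffffffffffffffffffffffffffffffffffffffffffffffffffffffffffffffffffffffffffffffffffffffffffffffffffffffffffffffffffffffffffffffffffffffffffffffffffffffffffffffffffffffffffffffffffffffffffffffffffffffffffffffffffffffffffffffffffffffffffffffffffffffffffffffffffffffffffffffffffffffffffffffffffffffffffffffffffffffffffffffffffffffffffffffffffffffffffffffffffffffffffffffffffffffffffffffffffffffffffffffffffffffffffffffffffffffffffffffffffffffffffffffffffffffffffffffffffffffffffffffffffffffffffffffffffffffffffffffffffffffffffffffffffffffffffffffffffffffffffffffffffffffffffffffffffffffffffffffffffffffffffffffffffffffffffffffffffffffffffffffffffffffffffffffffffffffffffffffffffffffffffffffffffffffffffffffffffffffffffffffffffffffffffffffffffffffffffffffffffffffffffffffffffffffffffffffffffffffffffffffffffffffffffffffffffffffffffffffffffffffffffffffffffffffffffffffffffffffffffffffffffffffffffffffffffffffffffffffffffffffffffffffffffffffffffffffffffffffffffffffffffffffffffffffffffffffffffffffffffffffffffffffffffffffffffffffffffffffffffffffffffffffffffffffffffffffffffffffffffffffffffffffffffffffffffffffffffffffffffffffffffffffffffffffffffffffffffffffffffffffffffffffffffffffffffffffffffffffffffffffffffff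ffffffffffffffffffffffffffffffffffffffffffffffffffffffffffffffffffffffffffffffffffffffffffffffffffffffffffffffffffffffffffffffffffffffffffffffffffffffffffffffffffffffffffffffffffffffffffffffffffffffffffffffffffffffffffffffffffffffffffffffffffffffffffffffffffffffffffffffffffffffffffffffffffffffffffffffffffffffffffffffffffffffffffffffffffffffffffffffffffffffffffffffffffffffffffffffffffffffffffffffffffffffffffffffffffffffffffffffffffffffffffffffffffffffffffffffffffffffffffffffffffffffffffffffffffffffffffffffffffffffffffffffffffffffffffffffffffffffffffffffffffffffffffffffffffffffffffffffffffffffffffffffffffffffffffffffffffffffffffffffffffffffffffffffffffffffffffffffffffffffffffffffffffffffffffffffffffffffffffffffffffffffffffffffffffffffffffffffffffffffffffffffffffffffffffffffffffffffffffffffffffffffffffffffffffffffffffffffffffffffffffffffffffffffffffffffffffffffffffffffffffffffffffffffffffffffffffffffffffffffffffffffffffffffffffffffffffffffffffffffffffffffffffffffffffffffffffffffffffffffffffffffffffffffffffffffffffffffffffffffffffffffffffffffffffffffffffffffffffffffffffffffffffffffffffffffffffffffffffffffffffffffffffffffffffffffffffffffffffffffffffffffffffffffffffffffffffffffffffffffffffffffffffffffffffffffffffffffffffffffffffffffffffffffffffff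ffffffffffffffffffffffffffffffffffffffffffffffffffffffffffffffffffffffffffffffffffffffffffffffffffffffffffffffffffffffffffffffffffffffffffffffffffffffffffffffffffffffffffffffffffffffffffffffffffffffffffffffffffffffffffffffffffffffffffffffffffffffffffffffffffffffffffffffffffffffffffffffffffffffffffffffffffffffffffffffffffffffffffffffffffffffffffffffffffffffffffffffffffffffffffffffffffffffffffffffffffffffffffffffffffffffffffffffffffffffffffffffffffffffffffffffffffffffffffffffffffffffffffffffffffffffffffffffffffffffffffffffffffffffffffffffffffffffffffffffffffffffffffffffffffffffffffffffffffffffffffffffffffffffffffffffffffffffffffffffffffffffffffffffffffffffffffffffffffffffffffffffffffffffffffffffffffffffffffffffffffffffffffffffffffffffffffffffffffffffffffffffffffffffffffffffffffffffffffffffffffffffffffffffffffffffffffffffffffffffffffffffffffffffffffffffffffffffffffffffffffffffffffffffffffffffffffffffffffffffffffffffffffffffffffffffffffffffffffffffffffffffffffffffffffffffffffffffffffffffffffffffffffffffffffffffffffffffffffffffffffffffffffffffffffffffffffffffffffffffffffffffffffffffffffffffffffffffffffffffffffffffffffffffffffffffffffffffffffffffffffffffffffffffffffffffffffffffffffffffffffffffffffffffffffffffffffffffffffffffffffffffffffffffffffff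ffffffffffffffffffffffffffffffffffffffffffffffffffffffffffffffffffffffffffffffffffffffffffffffffffffffffffffffffffffffffffffffffffffffffffffffffffffffffffffffffffffffffffffffffffffffffffffffffffffffffffffffffffffffffffffffffffffffffffffffffffffffffffffffffffffffffffffffffffffffffffffffffffffffffffffffffffffffffffffffffffffffffffffffffffffffffffffffffffffffffffffffffffffffffffffffffffffffffffffffffffffffffffffffffffffffffffffffffffffffffffffffffffffffffffffffffffffffffffffffffffffffffffffffffffffffffffffffffffffffffffffffffffffffffffffffffffffffffffffffffffffffffffffffffffffffffffffffffffffffffffffffffffffffffffffffffffffffffffffffffffffffffffffffffffffffffffffffffffffffffffffffffffffffffffffffffffffffffffffffffffffffffffffffffffffffffffffffffffffffffffffffffffffffffffffffffffffffffffffffffffffffffffffffffffffffffffffffffffffffffffffffffffffffffffffffffffffffffffffffffffffffffffffffffffffffffffffffffffffffffffffffffffffffffffffffffffffffffffffffffffffffffffffffffffffffffffffffffffffffffffffffffffffffffffffffffffffffffffffffffffffffffffffffffffffffffffffffffffffffffffffffffffffffffffffffffffffffffffffffffffffffffffffffffffffffffffffffffffffffffffffffffffffffffffffffffffffffffffffffffffffffffffffffffffffffffffffffffffffffffffffffffffffffffffff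fffffffffffffffffffffffffffffffffffffffffffffffffffffffffffffffffffffffffffffffffffffffffffffffffffffffffffffffffffffffffffffffffffffffffffffffffffffffffffffffffffffffffffffffffffffffffffffffffffffffffffffffffffffffffffffffffffffffffffffffffffffffffffffffffffffffffffffffffffffffffffffffffffffffffffffffffffffffffffffffffffffffffffffffffffffffffffffffffffffffffffffffffffffffffffffffffffffffffffffffffffffffffffffffffffffffffffffffffffffffffffffffffffffffffffffffffffffffffffffffffffffffffffffffffffffffffffffffffffffffffffffffffffffffffffffffffffffffffffffffffffffffffffffffffffffffffffffffffffffffffffffffffffffffffffffffffffffffffffffffffffffffffffffffff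

theorem fix0 : ∀ r ∈ rs0, ∀ b ∈ ([] : List ℕ), wordApply (sgnProg pr) r.toWord (2 ^ b) = 2 ^ b := by simp

theorem M0_eq : grow pr (rs0.map FreeGroup.toWord) 13 (2 ^ 0) = M0 := by decide +kernel

theorem M0_lt : M0 < 2 ^ 2 ^ 15 := by decide +kernel

theorem M0_cnt : sumRange M0.testBit 15 0 = 31671 := by decide +kernel

theorem L0 : 31671 * Nat.card (ptStab Phi ([0] : List ℕ)) ≤ Nat.card (ptStab Phi ([] : List ℕ)) :=
  card_step (M0_eq ▸ sound_ptStab hR hv rs0 fix0 13 0) M0_lt M0_cnt

/-- The words of level 1. -/
noncomputable def rs1 : List (FreeGroup Cfsg.Spor.Fi23.Gen) := [
  W [(.a, true)],
  W [(.b, true)],
  W [(.c, true)],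
  W [(.d, true)],
  W [(.e, true)],
  W [(.f, true)],
  W [(.g, true)],
  W [(.h, true)],
  W [(.i, true)]]

/-- The mask of level 1. -/
def M1 : ℕ := nat_lit 0x3fff8000000000000000000000000000000000000000000000000000000000000000000000001c0000000000000000000000000000000000000000000000000000000000000000000f0000000000000000000000000000000000000000000000000180000000000000000000000000000000000000000000000000000000000000000000000000000000000000000000000000000000000000000000000000000000000000000000000000000ffffffeffff80000000000000000000000000000000000000000000000000000000000000000000000000000000001ff8000000000000000000000000000000000000000000000000000000000000000000000000000000000001ffff0000000000000000000000000000000000000000000000000000000000001c0000000000000000000000000000000000000000000000000000000000000000000000000000000000000000000000000000000000000000000000000000000000000000000000000000000000000000007ffffefff7f7ffbffff0000000000000000000000000000000000000000000000000000000000000000000000000000000000000003fffc000000000000000000000000000000000000000000000000000000000000000000000000000000000000000000000000000000000000fffffffc00000000000000000000000000000000000000000000000000000000000000000001ff80000000000000000000000000000000000000000000000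000000000000000000000000000000000000000000000000000000000000000000000000000000000000000000000000000000000000000000000000ffffeffdfffeff3fffbffedfefc00000000000000000000000000000000000000000000000000000000000000000000000000000000000000001ffffff0000001c000000000000000000000075f8000000000000000000000000000000000000000000000000000000000000000000000000000000000000000000000000000000001ffffffffffc00000000000000000000000000000000000000000000000000000000000000000000000000ffff0000000000000000000000000000000000000000000000000000000000000000000000000000000000000000000000000000000000000000000000000000000000000000000000000000000000000000000001fefffdffcdffff37dffdefcdfd37d75ddfe0000000000000000000000000000000000000000000000000000000000000000000000000000000000037ffbffdf60000000000e0000000000000000000000000000000000007e7bfc00000000000000000000000000000000000000000000000000000000000000000000000000000000000000000000000000000000000000effdfffdfbbffffe00000000000000000000000000000000000000000000000000000000000000000000000001d7ffffe00000000000000000000000000000000000000000000000000000000000000000000000000000000000000000000000000000000000000000000000000000000000000000000000000000000000000ffbfff37d7d7bebbdf793f3eb9d7bbefc7ffc00000000000000000000000000000000000000000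00000000000000000000000000000000000fffefff7ddc0000000000001c0000000000000000000000000000000000000000000000007e78fb7f8000000000000000000000000000000000000000000000000000000000000000000000000000000000000000000000000000000000000003e6fdcbff67d8f7f7f7f80000000000000000000000000000000000000000000000000000000000000000000fdfff7fff00000000000000000000000000000000000000000000000000000000000000000000000000000000000000000000000000000000000000000000000000000000000000000000001ff5fefaebd7ddf7f23d7f77bbefef5fff000000000000000000000000000000000000000000000000000000000000007ffbfffdaefb800078000000000c03800000000000070000060000000000000000000000000000000000000003f1f1fb77fc000000000000000000000000000000000000000000000000000000000000000000000000000000000000000000000000000000fccf99f7d77abbbfbf77f0000000000000000000000000000000000000000000000000000000075efff7ffff00000780000000000000000000000000000000000000000000000000000000000000000000000000000000000000000000000000000000000000000003d3d7f77bbefef577efbff76f7f00000000000000000000000000000000000000000000000fdfbfff777f000007fff00000000000fdc003e00000000000000000f80000003000000000000000000000000000000000000001f9cf9fe7bf0000000000000000000000000000000000000000000000000000000000000000000000000000000000000003e63d7eef777d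ddf7dfc00000000000000000000000000000000000000000000f6effefffbf8000003fffc000000000000000000000000000000000000000000000000000000000000000000000000000000000000000003d5dfbeffdddfdff6ffc000000000000000000000000000000005ddfffedf800000fefff7c0000000007fbf9fe0001f80000000000000000001fc0000000007f400000000000000000000000000000000007ccf7f7bf00000000000000000000000000000000000000000000000000000000000000000000f577efbfdddfdfc000000000000000000000000000000001777f7fdbfc0000003ffffff0000000000000000000000000000000000000000000000000000000000000000005ddfdff6ffdff80000000000000000000001b7feff000003ff7dff80000000001ff807ff0ffe03fc07ffc0000fd8000000000000000000003fdc000000000003ffc007f7fc00000000000000000000000000000001eaefdf7e0000000000000000000000000000000000000000000000000005ddfdff6ffc0000000000000000000000006dffbfdc0000000ffdffffff000000000000000000000000000000000000000000000000dbff7fefc0000000000000007fef80001ffff80000007e03fc1fc00007ff001fff00001ddc0000000000000000000000003dfbfc00000000000005ffbe00003f7ffff000000000000000000000000002eefefc000000000000000000000000000000000000036ffdff8000000000000000007feff000001ffffff800000000000000000000000000000000003ff7ff00000000001ff800fff80001f07c7f200000000001bc000f002ffff801fff800000efdc000000000000000000000002ff7f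e0000000000000ffdf00003ffffff80000000000000000000036ffc0000000000000000000000000007fefc000000000000fff0001ffffc0000000000000000000000001fff80000007f807f80071cff0b0000000000000000f7f0000001fdc0007ffffff007fff00000036ff0000000000000000000003ff7e0000000000ffe000fffffe00000000000000001ff80000000000000000001ffc00000001ff800fff80000000000000000003ff00001f07c0337fbf002de00000000000000003fbf0000003fe000fffffe00fff0000007fe00000000000000000ffe0000000ff8007fffc0000000000001f800000000000003fc000007e03fe0000000000003f00071e0b6fcfe0007f000000000000003ff800001fc007ffff007fe000001f8000000000003fc00001f803ffc000000000f8000000001f0000f07f00000000780678b4fe3f80007e000000000007f80003f003ffe007e00003e000000003e0003e03fc0000007000000700387c00001c19ca1fc1f80007c000000007c001f807f803e00038000007001e0f800006000180e38001c3240fc0f8000e000001c003c1f01c0030000c01c700020060640061007c07000c00030038e0600400c0640101820040070300200603208080c1010200018202030410408040008410204200004420080011000010000000000000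

theorem fix1 : ∀ r ∈ rs1, ∀ b ∈ ([0] : List ℕ), wordApply (sgnProg pr) r.toWord (2 ^ b) = 2 ^ b := by decide +kernel

theorem M1_eq : grow pr (rs1.map FreeGroup.toWord) 8 (2 ^ 8005) = M1 := by decide +kernel

theorem M1_lt : M1 < 2 ^ 2 ^ 15 := by decide +kernel

theorem M1_cnt : sumRange M1.testBit 15 0 = 3510 := by decide +kernel

theorem L1 : 3510 * Nat.card (ptStab Phi ([8005, 0] : List ℕ)) ≤ Nat.card (ptStab Phi ([0] : List ℕ)) :=
  card_step (M1_eq ▸ sound_ptStab hR hv rs1 fix1 8 8005) M1_lt M1_cnt

/-- The words of level 2. -/
noncomputable def rs2 : List (FreeGroup Cfsg.Spor.Fi23.Gen) := [
  W [(.a, true)],
  W [(.b, true)],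
  W [(.c, true)],
  W [(.d, true)],
  W [(.e, true)],
  W [(.h, true)],
  W [(.i, true)],
  W [(.f, true), (.e, true), (.d, true), (.c, true), (.g, true), (.f, true), (.h, true), (.d, true), (.e, true), (.d, true), (.h, true), (.f, true), (.g, true), (.c, true), (.d, true), (.e, true), (.f, true)]]

/-- The mask of level 2. -/
def M2 : ℕ := nat_lit 0x200000000000000000000000000000000000000000000000000000000000000000000000000000000000000000000000000000010000000000000000000000004100000000000000000000000000000000000000000000000000000000000000000000000000000000000000000000000000000000000000000000000000000000000000000000000000000000000000000000000000000000000000000000000000000000000000000000000000000000000000000000000000000000000000000000000000000000000000000000000000000000000000000000000000000000000000000000000000000000000000000000000000000000000000000000000000000000004400000000000000000000000000000000000000000000000000000000000000000000000000000000000000022000000000000008000000000000000000000000000000000000007820000000000000000000000000000000000000000000000000000000000000000000000000000000000000000000000000000000000000000000000000000000000000000000000000000000000000000000000000000000000000000000000000000000000000000000000000000000000000000000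00000000000000000000000000000000000000000000000000000000000000000000000000000000000000000000000000000000000000000000000000000000000000000000000000000002000000400000182400000000000000000000000000000000000000000000000000000000000000000000000000004000c404000000000000000180000000000000000000000000000000000000000000000000078030000000000000000000000000000000000000000000000000000000000000000000000000000000000000000000000000000000000000000000000000000000000000000000000000000000000000000000000000000000000000000000000000000000000000000000000000000000000000000000000000000000000000000000000000000000000000000000000000000000000000000000000000000000000000000000000000000000000000000000100000004000000006000010100060d000000000000000000000000000000000000000000000000000000000000000c0018600040000000000000000c0000000000000000000002000000000000000000000000000000000000000001f00300000000000000000000000000000000000000000000000000000000000000000000000000000000000000000000000000000000000000000000000000000000000000000000000000000000000000000000000000000000000000000040004200000000000000000000000000000000000000000000000000000000000000000000000000000000000000000000000000000000000000000000000000000006000010100003000c4006450000000000000000000000000000000000000000000000000c0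0c40018000000000000000000001c000000000000000000000000000000100000000000000000000000000000000000000001c018000000000000000000000000000000000000000000000000000000000000000000000000000000000000000000000000400000000080040000000000000000000000000000000000000000000000006003100800000000000000000000000000000000000000000000000000000000000000000000000000000000000000000000000000000000c0031000611408940000000000000000000000000000000000062281100000000000000000000000b9b800000000000000000000000000000000000000404000000000000000000000000000000000000c0600000000000000000000000000000000000000000000000000000000000000000000000000030008000611400000000000000000000000000000000000184502280000000000000000000000000000000000000000000000000000000000000000000000000000000000611408950a80000000000000000000000044a85000000000000000000000010a80000000e006c0000000000000000000000000000000020000000000000010a0000001c00000000000000000000000000000000080e0010000000000000000000000000000000000000000000000000000000611408940000000000000000000000000112a1480000000000000001000000000000000000000000000000000000000000000000022542a4c00000000000000042a4800000000000000026000000c000007d000000000010000000000000000000000000002000440000000000000112820000000000f0000000000000000000000000000830880000000000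000000000000000000000000000008950a80000000000000000042a490000000000008000000000000000000000000000000000021526700000000000998000000000070000e000000000000000000000003d00008000000002000000000000000000000000001142a000000000000085420000000000c8000000000000000000000089400000000000000000000000000042a4c0000000000004cd000000004000000000000000000000000099d80000001d80000003002c0000000000000000000010000000140000000006600004000000000110000000000000000000002152600000000004cc000000014000000000000000010a8000000000000000000099c000000007780000080000000000000000000ef00000f000030130000000000000000000000000930000001240000000280001100000042a000000000000000004ce00000003b8000001000000000000009800000000000000ec000003e00000000000000001f000700080200000001000000000000001338000006c00000080042a00000098000000000000ec00000f80000000000000038000000000f0000f00000000000780600800000800026000000000001d80001f000000002600000e000000001e0003e00000000003000000700380000001c18080040980001c000000003c001f8000000e00018000007001e00000006000180e00001c30404c0380006000001c003c0000c0030000c01c000020060600061001c03000c0003003800600400c0600101820040030300200603008080c1010200018202030410408040008410204200004420080011000010000000000000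

theorem fix2 : ∀ r ∈ rs2, ∀ b ∈ ([8005, 0] : List ℕ), wordApply (sgnProg pr) r.toWord (2 ^ b) = 2 ^ b := by decide +kernel

theorem M2_eq : grow pr (rs2.map FreeGroup.toWord) 4 (2 ^ 8001) = M2 := by decide +kernel

theorem M2_lt : M2 < 2 ^ 2 ^ 15 := by decide +kernel

theorem M2_cnt : sumRange M2.testBit 15 0 = 693 := by decide +kernel

theorem L2 : 693 * Nat.card (ptStab Phi ([8001, 8005, 0] : List ℕ)) ≤ Nat.card (ptStab Phi ([8005, 0] : List ℕ)) :=
  card_step (M2_eq ▸ sound_ptStab hR hv rs2 fix2 4 8001) M2_lt M2_cnt

/-- The words of level 3. -/
noncomputable def rs3 : List (FreeGroup Cfsg.Spor.Fi23.Gen) := [
  W [(.a, true)],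
  W [(.b, true)],
  W [(.c, true)],
  W [(.i, true)],
  W [(.d, true), (.c, true), (.e, true), (.h, true), (.d, true), (.h, true), (.e, true), (.c, true), (.d, true)],
  W [(.f, true), (.e, true), (.d, true), (.c, true), (.g, true), (.f, true), (.h, true), (.d, true), (.e, true), (.d, true), (.h, true), (.f, true), (.g, true), (.c, true), (.d, true), (.e, true), (.f, true)]]

/-- The mask of level 3. -/
def M3 : ℕ := nat_lit 0x200000000000000000000000000000000000000000000000000000000000000000000000000000000000000000000000000000010000000000000000000000004100000000000000000000000000000000000000000000000000000000000000000000000000000000000000000000000000000000000000000000000000000000000000000000000000000000000000000000000000000000000000000000000000000000000000000000000000000000000000000000000000000000000000000000000000000000000000000000000000000000000000000000000000000000000000000000000000000000000000000000000000000000000000000000000000000000000000000000000000000000000000000000000000000000000000000000000000000000000000000000000000000000000000000000000000000000000000000000000000000000006000000000000000000000000000000000000000000000000000000000000000000000000000000000000000000000000000000000000000000000000000000000000000000000000000000000000000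000000000000000000000000000000000000000000000000000000000000000000000000000000000000000000000000000000000000000000000000000000000000000000000000000000000000000000000000000000000000000000000000000000000000000000000000000000000000000000000000000004000000000000000000000000000000000000000000000000000000000000000000000000000000000000000000000000000000000000000000000000000000000000000000000000000000000000000000000000000000000000000000000000000000000000000000000000000000000000000000000000000000000000000000000000000000000000000000000000000000000000000000000000000000000000000000000000000000000000000000000000000000000000000000000000000000000000000000000000000000000000000000000000000000000000000000000000000000000000000000000000000000000000000000000000000000000000000000000000000000000000900000000000000000000000000000000000000000000000000000000000000000000000000000000000000000000000000000000000000020000000000000000000000000000000000000000000000000000000000000000000000000000000000000000000000000000000000000000000000000000000000000000000000000000000000000000000000000000000000000000000000000000000000000000000000000000000000000000000000000000000000000000000000000000000000000000000000000000000000000000000000000000000000000000000000000000000000000000000000000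00000000000000000000000044500000000000000000000000000000000000000000000000000000000000000000000000000000014000000000000000000000000000000100000000000000000000000000000000000000000001000000000000000000000000000000000000000000000000000000000000000000000000000000000000000000000000000000000000000000000000000000000000000000000000000000000000000000000000000000000000000000000000000000000000000000000000000000000000000000000000000000000000000000000000000000000000000000008940000000000000000000000000000000000000000000000000000000000000000b9880000000000000000000000000000000000000000400000000000000000000000000000000000080400000000000000000000000000000000000000000000000000000000000000000000000000000000000000000000000000000000000000000000000000000000080000000000000000000000000000000000000000000000000000000000000000000000000000000000000000010a80000000000000000000000000000000000000000000000000010a80000000200400000000000000000000000000000000000000000000000000a0000000000000000000000000000000000000000080800100000000000000000000000000000000000000000000000000000000000000000000000000000000000000000000008000000000000000000000000000000000000000000000000000000000000000000000004800000000000000000000000000000000000240000000000000000000000000000000000000000000000000000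00004400000000000001128200000000000000000000000000000000000000082088000000000000000000000000000000000000000000000000000000000000000000100000000000080000000000000000000000000000000000000004000000000000000000000000400008000000000000000000000000000000000000000000000000000000000000000001142a000000000000085420000000000c00000000000000000000000894000000000000000000000000000000000000000000000000000000040000000000000000000000000000000000000000000000024000000000000000000001000000014000000000620000000000000000000000000000000000000215240000000000488000000014000000000000000010a8000000000000000000000000000000000000008000000000000000000000000000000000130000000000000000000000000920000001240000000280000000000000000000000000000000488000000020000000100000000000000900000000000000000000000000000000000000000000000000020000000000000000000000122000000400000008000000000000000000000000080000000000000000000000200000000000000010000000000008000080000000000000000000000100000000000000000000000000000000000006000000000000000000000800000004000800400000000000000000000038000000000000000000000600000000000000200000400404800000000000000000c0000000000000004000000000000000001000000000000008000000000000010000000000000000000000008000010000000002000010400040000410004200004420080011000010000000000000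

theorem fix3 : ∀ r ∈ rs3, ∀ b ∈ ([8001, 8005, 0] : List ℕ), wordApply (sgnProg pr) r.toWord (2 ^ b) = 2 ^ b := by decide +kernel

theorem M3_eq : grow pr (rs3.map FreeGroup.toWord) 5 (2 ^ 8003) = M3 := by decide +kernel

theorem M3_lt : M3 < 2 ^ 2 ^ 15 := by decide +kernel

theorem M3_cnt : sumRange M3.testBit 15 0 = 180 := by decide +kernel

theorem L3 : 180 * Nat.card (ptStab Phi ([8003, 8001, 8005, 0] : List ℕ)) ≤ Nat.card (ptStab Phi ([8001, 8005, 0] : List ℕ)) :=
  card_step (M3_eq ▸ sound_ptStab hR hv rs3 fix3 5 8003) M3_lt M3_cnt

/-- The words of level 4. -/
noncomputable def rs4 : List (FreeGroup Cfsg.Spor.Fi23.Gen) := [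
  W [(.d, true), (.c, true), (.e, true), (.h, true), (.d, true), (.h, true), (.e, true), (.c, true), (.d, true)],
  W [(.b, true), (.a, true), (.c, true), (.b, true), (.d, true), (.c, true), (.e, true), (.h, true), (.d, true), (.h, true), (.e, true), (.c, true), (.d, true), (.b, true), (.c, true), (.a, true), (.b, true)],
  W [(.b, true), (.f, true), (.e, true), (.d, true), (.c, true), (.g, true), (.f, true), (.h, true), (.d, true), (.e, true), (.d, true), (.h, true), (.f, true), (.g, true), (.c, true), (.d, true), (.e, true), (.f, true), (.i, true), (.d, true), (.c, true), (.e, true), (.h, true), (.d, true), (.h, true), (.e, true), (.c, true), (.d, true), (.i, true), (.b, true), (.c, true), (.b, true), (.f, true), (.e, true), (.d, true), (.c, true), (.g, true), (.f, true), (.h, true), (.d, true), (.e, true), (.d, true), (.h, true), (.f, true), (.g, true), (.c, true), (.d, true), (.e, true), (.f, true), (.i, true), (.d, true), (.c, true), (.e, true), (.h, true), (.d, true), (.h, true), (.e, true), (.c, true), (.d, true), (.b, true)]]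

/-- The mask of level 4. -/
def M4 : ℕ := nat_lit 0x600000000000000000000000000000000000000000000000000000000000000000000000000000000000000000000000000000000000000000000000000000000000000000000000000000000000000000000000000000000000000000000000000000000000000000000000000000000000000000000000000000000000000000000000000000000000000000000000000000000000000000000000000000000000000000000000000000000000000000000000000000000000000000000000000000000000000000000000000000000000000000000000000000000000000000000000000000000000000000000000000000000000000000000000000000000000000000000000000000000000000000000000000000000000000000000000000000000000000000000000000000000000000000000000000000000000000000000000000000000000000000000000000000000000000000000000000000000000000000000000000000000000000000000000000000000000000000000000000000000000000000000000000000000000000000000000000000000000000000000000000000000000000000000000000000000000000000000000000000000000000000000000000000000000000000000000000000000000000000000000000000000000000000000000000000000000000000000000000000000000000000000000000000000000000000000000002000000000000000000000000000000000000000000000000000000000000000000000000000000000000000000000000000000000000000000000000000000000000000000000000000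000000000000000000000000000000000000000000000000000000000000000000000000000000000000000000000000000000000000000000000000000000000000000000000000000000000000000000000000000000000000000000000000000000000000000000000000000000000000000000000000000000000000000000000000000000000000000000000000000000000000000000000000000000000000000000000000000000000000000000000000000000000000000000000000000000000000000000000000000000000000000000000000000000000000000000000000000000000000000000000000000000000000000000000000000000000000000000000000000000000000000000000000000000000000000000000000000000000000000000000000000000000000000000000000000000000000000000000000000000000000000000000000000000000000000000000000000000000000000000000000000000000000000000000000000000000000000000000000000000000000000000000000000000000000000000000000000000000000000000000000000000000000000000000000000000000000000000000000000000000000000000000000000000000000000000000000000000000000000000000000000000000000000000000000000000000000000000000000000000000000000000000000000000000000000000000000000000000000000000000000000000000000000000000000000000000000000000000000000000000000000000000000000000000000000000000000000000000000000000000000000000000000000000000000000000000000000000000000000000000000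00000000000000000000000000000000000000000000000000000000000000000000000000000000000000000000000000000000000000000000000000000000000000000000000000000000000000000000000000000000000000000000000000000000000000000000000000000000000000000000000000000000000000000000000000000000000000000000000000000000000000000000000000000000000000000000000000000000000000000000000000000000000000000000000000000000000000000000000000000000000000000000000000000000000000000000000000000000000000000000000000000000000000000000000000000000000000000000000000000000000000000000000000000000000000000000000000000000000000000000000000000000000000000000000000000000000000000000000000000000000000000000000000000000000000000000000000000000000000000000000000000000000000000000000000000000000000000000000000000000000000000000000000000000000000000000000000000000000000000000000000000000000000000000000000000000000000000000000000000000000000000000000000000000000000000000000000000000000000000000000000000000000000000000000000000000000000000000000000000000000000000000000000000000000000000000000000000000000000000000000000000000000000000000000000000000000000000000000000000000000000000000000000000000000000000000000000000000000000000000000000000000000000000000000000000000000000000000000000000000000000000000000000000000000000000000000000000000000000000000000000000000000000000000000000000000000000000000000000000000000000000000000000000000000000000000000000000000000000000000000000000000000000000000000000000000000000000000000000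

theorem fix4 : ∀ r ∈ rs4, ∀ b ∈ ([8003, 8001, 8005, 0] : List ℕ), wordApply (sgnProg pr) r.toWord (2 ^ b) = 2 ^ b := by decide +kernel

theorem M4_eq : grow pr (rs4.map FreeGroup.toWord) 2 (2 ^ 11589) = M4 := by decide +kernel

theorem M4_lt : M4 < 2 ^ 2 ^ 15 := by decide +kernel

theorem M4_cnt : sumRange M4.testBit 15 0 = 3 := by decide +kernel

theorem L4 : 3 * Nat.card (ptStab Phi ([11589, 8003, 8001, 8005, 0] : List ℕ)) ≤ Nat.card (ptStab Phi ([8003, 8001, 8005, 0] : List ℕ)) :=
  card_step (M4_eq ▸ sound_ptStab hR hv rs4 fix4 2 11589) M4_lt M4_cnt

/-- The words of level 5. -/
noncomputable def rs5 : List (FreeGroup Cfsg.Spor.Fi23.Gen) := [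
  W [(.d, true), (.c, true), (.e, true), (.h, true), (.d, true), (.h, true), (.e, true), (.c, true), (.d, true)],
  W [(.b, true), (.a, true), (.c, true), (.b, true), (.d, true), (.c, true), (.e, true), (.h, true), (.d, true), (.h, true), (.e, true), (.c, true), (.d, true), (.b, true), (.c, true), (.a, true), (.b, true)],
  W [(.b, true), (.d, true), (.c, true), (.e, true), (.h, true), (.d, true), (.h, true), (.e, true), (.c, true), (.d, true), (.i, true), (.f, true), (.e, true), (.d, true), (.c, true), (.g, true), (.f, true), (.h, true), (.d, true), (.e, true), (.d, true), (.h, true), (.f, true), (.g, true), (.c, true), (.d, true), (.e, true), (.f, true), (.b, true), (.c, true), (.b, true), (.i, true), (.d, true), (.c, true), (.e, true), (.h, true), (.d, true), (.h, true), (.e, true), (.c, true), (.d, true), (.i, true), (.f, true), (.e, true), (.d, true), (.c, true), (.g, true), (.f, true), (.h, true), (.d, true), (.e, true), (.d, true), (.h, true), (.f, true), (.g, true), (.c, true), (.d, true), (.e, true), (.f, true), (.b, true), (.d, true), (.c, true), (.e, true), (.h, true), (.d, true), (.h, true), (.e, true), (.c, true), (.d, true), (.b, true), (.f, true), (.e, true), (.d, true), (.c, true), (.g, true), (.f, true), (.h, true), (.d, true),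 (.e, true), (.d, true), (.h, true), (.f, true), (.g, true), (.c, true), (.d, true), (.e, true), (.f, true), (.i, true), (.d, true), (.c, true), (.e, true), (.h, true), (.d, true), (.h, true), (.e, true), (.c, true), (.d, true), (.i, true), (.b, true), (.c, true), (.b, true), (.f, true), (.e, true), (.d, true), (.c, true), (.g, true), (.f, true), (.h, true), (.d, true), (.e, true), (.d, true), (.h, true), (.f, true), (.g, true), (.c, true), (.d, true), (.e, true), (.f, true), (.i, true), (.d, true), (.c, true), (.e, true), (.h, true), (.d, true), (.h, true), (.e, true), (.c, true), (.d, true), (.b, true)],
  W [(.b, true), (.d, true), (.c, true), (.e, true), (.h, true), (.d, true), (.h, true), (.e, true), (.c, true), (.d, true), (.i, true), (.f, true), (.e, true), (.d, true), (.c, true), (.g, true), (.f, true), (.h, true), (.d, true), (.e, true), (.d, true), (.h, true), (.f, true), (.g, true), (.c, true), (.d, true), (.e, true), (.f, true), (.b, true), (.c, true), (.b, true), (.i, true), (.d, true), (.c, true), (.e, true), (.h, true), (.d, true), (.h, true), (.e, true), (.c, true), (.d, true), (.i, true), (.f, true), (.e, true), (.d, true), (.c, true), (.g, true), (.f, true), (.h, true), (.d, true), (.e, true), (.d, true), (.h, true), (.f, true),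 (.g, true), (.c, true), (.d, true), (.e, true), (.f, true), (.a, true), (.c, true), (.b, true), (.d, true), (.c, true), (.e, true), (.h, true), (.d, true), (.h, true), (.e, true), (.c, true), (.d, true), (.b, true), (.c, true), (.a, true), (.f, true), (.e, true), (.d, true), (.c, true), (.g, true), (.f, true), (.h, true), (.d, true), (.e, true), (.d, true), (.h, true), (.f, true), (.g, true), (.c, true), (.d, true), (.e, true), (.f, true), (.i, true), (.d, true), (.c, true), (.e, true), (.h, true), (.d, true), (.h, true), (.e, true), (.c, true), (.d, true), (.i, true), (.b, true), (.c, true), (.b, true), (.f, true), (.e, true), (.d, true), (.c, true), (.g, true), (.f, true), (.h, true), (.d, true), (.e, true), (.d, true), (.h, true), (.f, true), (.g, true), (.c, true), (.d, true), (.e, true), (.f, true), (.i, true), (.d, true), (.c, true), (.e, true), (.h, true), (.d, true), (.h, true), (.e, true), (.c, true), (.d, true), (.b, true)],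
  W [(.b, true), (.f, true), (.e, true), (.d, true), (.c, true), (.g, true), (.f, true), (.h, true), (.d, true), (.e, true), (.d, true), (.h, true), (.f, true), (.g, true), (.c, true), (.d, true), (.e, true), (.f, true), (.i, true), (.d, true), (.c, true), (.e, true), (.h, true), (.d, true), (.h, true), (.e, true), (.c, true), (.d, true), (.i, true), (.b, true), (.c, true), (.b, true), (.f, true), (.e, true), (.d, true), (.c, true), (.g, true), (.f, true), (.h, true), (.d, true), (.e, true), (.d, true), (.h, true), (.f, true), (.g, true), (.c, true), (.d, true), (.e, true), (.f, true), (.i, true), (.d, true), (.c, true), (.e, true), (.h, true), (.d, true), (.h, true), (.e, true), (.c, true), (.d, true), (.f, true), (.e, true), (.d, true), (.c, true), (.g, true), (.f, true), (.h, true), (.d, true), (.e, true), (.d, true), (.h, true), (.f, true), (.g, true), (.c, true), (.d, true), (.e, true), (.f, true), (.i, true), (.d, true), (.c, true), (.e, true), (.h, true), (.d, true), (.h, true), (.e, true), (.c, true), (.d, true), (.i, true), (.b, true), (.c, true), (.b, true), (.f, true), (.e, true), (.d, true), (.c, true), (.g, true), (.f, true), (.h, true), (.d, true), (.e, true), (.d, true), (.h, true), (.f, true), (.g, true), (.c, true), (.d, true),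 (.e, true), (.f, true), (.i, true), (.d, true), (.c, true), (.e, true), (.h, true), (.d, true), (.h, true), (.e, true), (.c, true), (.d, true), (.f, true), (.e, true), (.d, true), (.c, true), (.g, true), (.f, true), (.h, true), (.d, true), (.e, true), (.d, true), (.h, true), (.f, true), (.g, true), (.c, true), (.d, true), (.e, true), (.f, true), (.i, true), (.d, true), (.c, true), (.e, true), (.h, true), (.d, true), (.h, true), (.e, true), (.c, true), (.d, true), (.i, true), (.b, true), (.c, true), (.b, true), (.f, true), (.e, true), (.d, true), (.c, true), (.g, true), (.f, true), (.h, true), (.d, true), (.e, true), (.d, true), (.h, true), (.f, true), (.g, true), (.c, true), (.d, true), (.e, true), (.f, true), (.i, true), (.d, true), (.c, true), (.e, true), (.h, true), (.d, true), (.h, true), (.e, true), (.c, true), (.d, true), (.b, true)],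
  W [(.b, true), (.d, true), (.c, true), (.e, true), (.h, true), (.d, true), (.h, true), (.e, true), (.c, true), (.d, true), (.i, true), (.f, true), (.e, true), (.d, true), (.c, true), (.g, true), (.f, true), (.h, true), (.d, true), (.e, true), (.d, true), (.h, true), (.f, true), (.g, true), (.c, true), (.d, true), (.e, true), (.f, true), (.b, true), (.c, true), (.b, true), (.i, true), (.d, true), (.c, true), (.e, true), (.h, true), (.d, true), (.h, true), (.e, true), (.c, true), (.d, true), (.i, true), (.f, true), (.e, true), (.d, true), (.c, true), (.g, true), (.f, true), (.h, true), (.d, true), (.e, true), (.d, true), (.h, true), (.f, true), (.g, true), (.c, true), (.d, true), (.e, true), (.f, true), (.d, true), (.c, true), (.e, true), (.h, true), (.d, true), (.h, true), (.e, true), (.c, true), (.d, true), (.i, true), (.f, true), (.e, true), (.d, true), (.c, true), (.g, true), (.f, true), (.h, true), (.d, true), (.e, true), (.d, true), (.h, true), (.f, true), (.g, true), (.c, true), (.d, true), (.e, true), (.f, true), (.b, true), (.c, true), (.b, true), (.i, true), (.d, true), (.c, true), (.e, true), (.h, true), (.d, true), (.h, true), (.e, true), (.c, true), (.d, true), (.i, true), (.f, true), (.e, true), (.d, true), (.c, true), (.g, true),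 (.f, true), (.h, true), (.d, true), (.e, true), (.d, true), (.h, true), (.f, true), (.g, true), (.c, true), (.d, true), (.e, true), (.f, true), (.b, true), (.d, true), (.c, true), (.e, true), (.h, true), (.d, true), (.h, true), (.e, true), (.c, true), (.d, true), (.b, true), (.f, true), (.e, true), (.d, true), (.c, true), (.g, true), (.f, true), (.h, true), (.d, true), (.e, true), (.d, true), (.h, true), (.f, true), (.g, true), (.c, true), (.d, true), (.e, true), (.f, true), (.i, true), (.d, true), (.c, true), (.e, true), (.h, true), (.d, true), (.h, true), (.e, true), (.c, true), (.d, true), (.i, true), (.b, true), (.c, true), (.b, true), (.f, true), (.e, true), (.d, true), (.c, true), (.g, true), (.f, true), (.h, true), (.d, true), (.e, true), (.d, true), (.h, true), (.f, true), (.g, true), (.c, true), (.d, true), (.e, true), (.f, true), (.i, true), (.d, true), (.c, true), (.e, true), (.h, true), (.d, true), (.h, true), (.e, true), (.c, true), (.d, true), (.f, true), (.e, true), (.d, true), (.c, true), (.g, true), (.f, true), (.h, true), (.d, true), (.e, true), (.d, true), (.h, true), (.f, true), (.g, true), (.c, true), (.d, true), (.e, true), (.f, true), (.i, true), (.d, true), (.c, true), (.e, true), (.h, true), (.d, true), (.h, true),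 (.e, true), (.c, true), (.d, true), (.i, true), (.b, true), (.c, true), (.b, true), (.f, true), (.e, true), (.d, true), (.c, true), (.g, true), (.f, true), (.h, true), (.d, true), (.e, true), (.d, true), (.h, true), (.f, true), (.g, true), (.c, true), (.d, true), (.e, true), (.f, true), (.i, true), (.d, true), (.c, true), (.e, true), (.h, true), (.d, true), (.h, true), (.e, true), (.c, true), (.d, true), (.b, true)]]

/-- The mask of level 5. -/
def M5 : ℕ := nat_lit 0x40000000000000000000000000000000000000000000000000000000000000000000000000000000000000000000000000000000000000000000000000000000000000000000000000000000000000000000000000000000000000000000000000000000000000000000000000000000000000000000000000000000000000000000000000000000000000000000000000000000000000000000000000000000000000000000000000000000000000000000000000000000000000000000000000000000000000000000000000000000000000000000000000000000000000000000000000000000000000000000000000000000000000000000000000000000000000000000000000000000000001000000000000000000000000000000000000000000000000000000000000000000000000000000000000000000000000000000000000000000000000000000000000000000000000000000000000000000000000000000000000000000000000000000000000000000000000000000000000000000000000000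000000000000000000000000000000000000000000000000000000000000000000000000000000000000000000000000000000000000000000000000000000000000000000000000000000000000000000000000000000000000000000000000000000000000000000000000000000000000000000000000000000000000000010000000000000000000000000000000000000000000000000000000000000000000000000000000000000000000000000000000000000000000000000000000000000000000000000000000000000000000000000000000000000000000000000000000000000000000000000000000000000000000000000000000000000000000000000000000000000000000000000000000000000000000000000000000000000000000000000000000000000000000000000000000000000000000000000000000000000000000000000000000000000000000000000000000000000000000000000000000000000000000000000000000000000000000000000008080000000000000000000000000000000000000000000000000000000000000000000000000000080000000000000000000000000000000000000000000000000000000000000000000000000000000000000000000000000000000000000000000000000000000000080000000000000000000000000000000000000000000000000000000000000000000000000000000000000000010000000000000000000000000000000000000000000000000000010000000000200000000000000000000000000000000000000000000000000000000000000000000000000000000000000000000000800000000000000000000000000000000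000000000000000000000000000000000000000000000000000000000000000000080000000000000000000000000000000000000000000000000000000000000000000000040000000000000000000000000000000000002000000000000000000000000000000000000000000000000000000000000000000000000000000000000000000000000000000000000000000008000000000000000000000000000000000000000000000000000000000000000000000010000000000008000000000000000000000000000000000000000400000000000000000000000040000800000000000000000000000000000000000000000000000000000000000000000000000000000000000000000000000000000000000000000000000000000000000000000000000000000000000000000000000000000000000400000000000000000000000000000000000000000000000200000000000000000000000000000000000000000200000000000000000000000000000000000000000000000000000000000000000000000000000000100000000000000000000000000000000000000000800000000000000000000000000000000012000000000000000000000000000000000000000000000000000000000000000000000000000000000000000000000000000000000000080000000000000000000000000000000000000000000000000002000000000000000000000000000000000000000000000000000000000000000000000000000000000000000020000000000000001000000000000800008000000000000000000000000000000000000000000000000000000000000000000000000000000000080000000400080000000000000000000000000800000000000000000000000000000000000020000040040400000000000000000000000000000000000000000000000000001000000000000000000000000000010000000000000000000000000000010000000000000000000040000000000000004000000010000010000000000000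

theorem fix5 : ∀ r ∈ rs5, ∀ b ∈ ([11589, 8003, 8001, 8005, 0] : List ℕ), wordApply (sgnProg pr) r.toWord (2 ^ b) = 2 ^ b := by decide +kernel

theorem M5_eq : grow pr (rs5.map FreeGroup.toWord) 2 (2 ^ 52) = M5 := by decide +kernel

theorem M5_lt : M5 < 2 ^ 2 ^ 15 := by decide +kernel

theorem M5_cnt : sumRange M5.testBit 15 0 = 48 := by decide +kernel

theorem L5 : 48 * Nat.card (ptStab Phi ([52, 11589, 8003, 8001, 8005, 0] : List ℕ)) ≤ Nat.card (ptStab Phi ([11589, 8003, 8001, 8005, 0] : List ℕ)) :=
  card_step (M5_eq ▸ sound_ptStab hR hv rs5 fix5 2 52) M5_lt M5_cnt

/-- The words of level 6. -/
noncomputable def rs6 : List (FreeGroup Cfsg.Spor.Fi23.Gen) := [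
  W [(.d, true), (.c, true), (.e, true), (.h, true), (.d, true), (.h, true), (.e, true), (.c, true), (.d, true)],
  W [(.b, true), (.a, true), (.c, true), (.b, true), (.d, true), (.c, true), (.e, true), (.h, true), (.d, true), (.h, true), (.e, true), (.c, true), (.d, true), (.b, true), (.c, true), (.a, true), (.b, true)],
  W [(.b, true), (.d, true), (.c, true), (.e, true), (.h, true), (.d, true), (.h, true), (.e, true), (.c, true), (.d, true), (.i, true), (.f, true), (.e, true), (.d, true), (.c, true), (.g, true), (.f, true), (.h, true), (.d, true), (.e, true), (.d, true), (.h, true), (.f, true), (.g, true), (.c, true), (.d, true), (.e, true), (.f, true), (.b, true), (.c, true), (.b, true), (.i, true), (.d, true), (.c, true), (.e, true), (.h, true), (.d, true), (.h, true), (.e, true), (.c, true), (.d, true), (.i, true), (.f, true), (.e, true), (.d, true), (.c, true), (.g, true), (.f, true), (.h, true), (.d, true), (.e, true), (.d, true), (.h, true), (.f, true), (.g, true), (.c, true), (.d, true), (.e, true), (.f, true), (.d, true), (.c, true), (.e, true), (.h, true), (.d, true), (.h, true), (.e, true), (.c, true), (.d, true), (.i, true), (.f, true), (.e, true), (.d, true), (.c, true), (.g, true), (.f, true), (.h, true), (.d, true), (.e, true),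 (.d, true), (.h, true), (.f, true), (.g, true), (.c, true), (.d, true), (.e, true), (.f, true), (.b, true), (.c, true), (.b, true), (.i, true), (.d, true), (.c, true), (.e, true), (.h, true), (.d, true), (.h, true), (.e, true), (.c, true), (.d, true), (.i, true), (.f, true), (.e, true), (.d, true), (.c, true), (.g, true), (.f, true), (.h, true), (.d, true), (.e, true), (.d, true), (.h, true), (.f, true), (.g, true), (.c, true), (.d, true), (.e, true), (.f, true), (.b, true), (.d, true), (.c, true), (.e, true), (.h, true), (.d, true), (.h, true), (.e, true), (.c, true), (.d, true), (.b, true), (.f, true), (.e, true), (.d, true), (.c, true), (.g, true), (.f, true), (.h, true), (.d, true), (.e, true), (.d, true), (.h, true), (.f, true), (.g, true), (.c, true), (.d, true), (.e, true), (.f, true), (.i, true), (.d, true), (.c, true), (.e, true), (.h, true), (.d, true), (.h, true), (.e, true), (.c, true), (.d, true), (.i, true), (.b, true), (.c, true), (.b, true), (.f, true), (.e, true), (.d, true), (.c, true), (.g, true), (.f, true), (.h, true), (.d, true), (.e, true), (.d, true), (.h, true), (.f, true), (.g, true), (.c, true), (.d, true), (.e, true), (.f, true), (.i, true), (.d, true), (.c, true), (.e, true), (.h, true), (.d, true), (.h, true),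 (.e, true), (.c, true), (.d, true), (.f, true), (.e, true), (.d, true), (.c, true), (.g, true), (.f, true), (.h, true), (.d, true), (.e, true), (.d, true), (.h, true), (.f, true), (.g, true), (.c, true), (.d, true), (.e, true), (.f, true), (.i, true), (.d, true), (.c, true), (.e, true), (.h, true), (.d, true), (.h, true), (.e, true), (.c, true), (.d, true), (.i, true), (.b, true), (.c, true), (.b, true), (.f, true), (.e, true), (.d, true), (.c, true), (.g, true), (.f, true), (.h, true), (.d, true), (.e, true), (.d, true), (.h, true), (.f, true), (.g, true), (.c, true), (.d, true), (.e, true), (.f, true), (.i, true), (.d, true), (.c, true), (.e, true), (.h, true), (.d, true), (.h, true), (.e, true), (.c, true), (.d, true), (.b, true)],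
  W [(.b, true), (.d, true), (.c, true), (.e, true), (.h, true), (.d, true), (.h, true), (.e, true), (.c, true), (.d, true), (.i, true), (.f, true), (.e, true), (.d, true), (.c, true), (.g, true), (.f, true), (.h, true), (.d, true), (.e, true), (.d, true), (.h, true), (.f, true), (.g, true), (.c, true), (.d, true), (.e, true), (.f, true), (.b, true), (.c, true), (.b, true), (.i, true), (.d, true), (.c, true), (.e, true), (.h, true), (.d, true), (.h, true), (.e, true), (.c, true), (.d, true), (.i, true), (.f, true), (.e, true), (.d, true), (.c, true), (.g, true), (.f, true), (.h, true), (.d, true), (.e, true), (.d, true), (.h, true), (.f, true), (.g, true), (.c, true), (.d, true), (.e, true), (.f, true), (.b, true), (.d, true), (.c, true), (.e, true), (.h, true), (.d, true), (.h, true), (.e, true), (.c, true), (.d, true), (.b, true), (.a, true), (.c, true), (.b, true), (.d, true), (.c, true), (.e, true), (.h, true), (.d, true), (.h, true), (.e, true), (.c, true), (.d, true), (.b, true), (.c, true), (.a, true), (.d, true), (.c, true), (.e, true), (.h, true), (.d, true), (.h, true), (.e, true), (.c, true), (.d, true), (.i, true), (.f, true), (.e, true), (.d, true), (.c, true), (.g, true), (.f, true), (.h, true), (.d, true), (.e, true), (.d, true),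 (.h, true), (.f, true), (.g, true), (.c, true), (.d, true), (.e, true), (.f, true), (.b, true), (.c, true), (.b, true), (.i, true), (.d, true), (.c, true), (.e, true), (.h, true), (.d, true), (.h, true), (.e, true), (.c, true), (.d, true), (.i, true), (.f, true), (.e, true), (.d, true), (.c, true), (.g, true), (.f, true), (.h, true), (.d, true), (.e, true), (.d, true), (.h, true), (.f, true), (.g, true), (.c, true), (.d, true), (.e, true), (.f, true), (.b, true), (.d, true), (.c, true), (.e, true), (.h, true), (.d, true), (.h, true), (.e, true), (.c, true), (.d, true), (.b, true), (.f, true), (.e, true), (.d, true), (.c, true), (.g, true), (.f, true), (.h, true), (.d, true), (.e, true), (.d, true), (.h, true), (.f, true), (.g, true), (.c, true), (.d, true), (.e, true), (.f, true), (.i, true), (.d, true), (.c, true), (.e, true), (.h, true), (.d, true), (.h, true), (.e, true), (.c, true), (.d, true), (.i, true), (.b, true), (.c, true), (.b, true), (.f, true), (.e, true), (.d, true), (.c, true), (.g, true), (.f, true), (.h, true), (.d, true), (.e, true), (.d, true), (.h, true), (.f, true), (.g, true), (.c, true), (.d, true), (.e, true), (.f, true), (.i, true), (.d, true), (.c, true), (.e, true), (.h, true), (.d, true), (.h, true), (.e, true),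 (.c, true), (.d, true), (.a, true), (.c, true), (.b, true), (.d, true), (.c, true), (.e, true), (.h, true), (.d, true), (.h, true), (.e, true), (.c, true), (.d, true), (.b, true), (.c, true), (.a, true), (.b, true), (.d, true), (.c, true), (.e, true), (.h, true), (.d, true), (.h, true), (.e, true), (.c, true), (.d, true), (.b, true), (.f, true), (.e, true), (.d, true), (.c, true), (.g, true), (.f, true), (.h, true), (.d, true), (.e, true), (.d, true), (.h, true), (.f, true), (.g, true), (.c, true), (.d, true), (.e, true), (.f, true), (.i, true), (.d, true), (.c, true), (.e, true), (.h, true), (.d, true), (.h, true), (.e, true), (.c, true), (.d, true), (.i, true), (.b, true), (.c, true), (.b, true), (.f, true), (.e, true), (.d, true), (.c, true), (.g, true), (.f, true), (.h, true), (.d, true), (.e, true), (.d, true), (.h, true), (.f, true), (.g, true), (.c, true), (.d, true), (.e, true), (.f, true), (.i, true), (.d, true), (.c, true), (.e, true), (.h, true), (.d, true), (.h, true), (.e, true), (.c, true), (.d, true), (.b, true)],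
  W [(.b, true), (.d, true), (.c, true), (.e, true), (.h, true), (.d, true), (.h, true), (.e, true), (.c, true), (.d, true), (.i, true), (.f, true), (.e, true), (.d, true), (.c, true), (.g, true), (.f, true), (.h, true), (.d, true), (.e, true), (.d, true), (.h, true), (.f, true), (.g, true), (.c, true), (.d, true), (.e, true), (.f, true), (.b, true), (.c, true), (.b, true), (.i, true), (.d, true), (.c, true), (.e, true), (.h, true), (.d, true), (.h, true), (.e, true), (.c, true), (.d, true), (.i, true), (.f, true), (.e, true), (.d, true), (.c, true), (.g, true), (.f, true), (.h, true), (.d, true), (.e, true), (.d, true), (.h, true), (.f, true), (.g, true), (.c, true), (.d, true), (.e, true), (.f, true), (.b, true), (.d, true), (.c, true), (.e, true), (.h, true), (.d, true), (.h, true), (.e, true), (.c, true), (.d, true), (.b, true), (.f, true), (.e, true), (.d, true), (.c, true), (.g, true), (.f, true), (.h, true), (.d, true), (.e, true), (.d, true), (.h, true), (.f, true), (.g, true), (.c, true), (.d, true), (.e, true), (.f, true), (.i, true), (.d, true), (.c, true), (.e, true), (.h, true), (.d, true), (.h, true), (.e, true), (.c, true), (.d, true), (.i, true), (.b, true), (.c, true), (.b, true), (.f, true), (.e, true), (.d, true), (.c, true),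 (.g, true), (.f, true), (.h, true), (.d, true), (.e, true), (.d, true), (.h, true), (.f, true), (.g, true), (.c, true), (.d, true), (.e, true), (.f, true), (.i, true), (.d, true), (.c, true), (.e, true), (.h, true), (.d, true), (.h, true), (.e, true), (.c, true), (.d, true), (.f, true), (.e, true), (.d, true), (.c, true), (.g, true), (.f, true), (.h, true), (.d, true), (.e, true), (.d, true), (.h, true), (.f, true), (.g, true), (.c, true), (.d, true), (.e, true), (.f, true), (.i, true), (.d, true), (.c, true), (.e, true), (.h, true), (.d, true), (.h, true), (.e, true), (.c, true), (.d, true), (.i, true), (.b, true), (.c, true), (.b, true), (.f, true), (.e, true), (.d, true), (.c, true), (.g, true), (.f, true), (.h, true), (.d, true), (.e, true), (.d, true), (.h, true), (.f, true), (.g, true), (.c, true), (.d, true), (.e, true), (.f, true), (.i, true), (.d, true), (.c, true), (.e, true), (.h, true), (.d, true), (.h, true), (.e, true), (.c, true), (.d, true), (.f, true), (.e, true), (.d, true), (.c, true), (.g, true), (.f, true), (.h, true), (.d, true), (.e, true), (.d, true), (.h, true), (.f, true), (.g, true), (.c, true), (.d, true), (.e, true), (.f, true), (.i, true), (.d, true), (.c, true), (.e, true), (.h, true), (.d, true), (.h, true),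 (.e, true), (.c, true), (.d, true), (.i, true), (.b, true), (.c, true), (.b, true), (.f, true), (.e, true), (.d, true), (.c, true), (.g, true), (.f, true), (.h, true), (.d, true), (.e, true), (.d, true), (.h, true), (.f, true), (.g, true), (.c, true), (.d, true), (.e, true), (.f, true), (.i, true), (.d, true), (.c, true), (.e, true), (.h, true), (.d, true), (.h, true), (.e, true), (.c, true), (.d, true), (.b, true), (.d, true), (.c, true), (.e, true), (.h, true), (.d, true), (.h, true), (.e, true), (.c, true), (.d, true), (.b, true), (.f, true), (.e, true), (.d, true), (.c, true), (.g, true), (.f, true), (.h, true), (.d, true), (.e, true), (.d, true), (.h, true), (.f, true), (.g, true), (.c, true), (.d, true), (.e, true), (.f, true), (.i, true), (.d, true), (.c, true), (.e, true), (.h, true), (.d, true), (.h, true), (.e, true), (.c, true), (.d, true), (.i, true), (.b, true), (.c, true), (.b, true), (.f, true), (.e, true), (.d, true), (.c, true), (.g, true), (.f, true), (.h, true), (.d, true), (.e, true), (.d, true), (.h, true), (.f, true), (.g, true), (.c, true), (.d, true), (.e, true), (.f, true), (.i, true), (.d, true), (.c, true), (.e, true), (.h, true), (.d, true), (.h, true), (.e, true), (.c, true), (.d, true), (.b, true)],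
  W [(.b, true), (.d, true), (.c, true), (.e, true), (.h, true), (.d, true), (.h, true), (.e, true), (.c, true), (.d, true), (.i, true), (.f, true), (.e, true), (.d, true), (.c, true), (.g, true), (.f, true), (.h, true), (.d, true), (.e, true), (.d, true), (.h, true), (.f, true), (.g, true), (.c, true), (.d, true), (.e, true), (.f, true), (.b, true), (.c, true), (.b, true), (.i, true), (.d, true), (.c, true), (.e, true), (.h, true), (.d, true), (.h, true), (.e, true), (.c, true), (.d, true), (.i, true), (.f, true), (.e, true), (.d, true), (.c, true), (.g, true), (.f, true), (.h, true), (.d, true), (.e, true), (.d, true), (.h, true), (.f, true), (.g, true), (.c, true), (.d, true), (.e, true), (.f, true), (.a, true), (.c, true), (.b, true), (.d, true), (.c, true), (.e, true), (.h, true), (.d, true), (.h, true), (.e, true), (.c, true), (.d, true), (.b, true), (.c, true), (.a, true), (.f, true), (.e, true), (.d, true), (.c, true), (.g, true), (.f, true), (.h, true), (.d, true), (.e, true), (.d, true), (.h, true), (.f, true), (.g, true), (.c, true), (.d, true), (.e, true), (.f, true), (.i, true), (.d, true), (.c, true), (.e, true), (.h, true), (.d, true), (.h, true), (.e, true), (.c, true), (.d, true), (.i, true), (.b, true), (.c, true), (.b, true),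 (.f, true), (.e, true), (.d, true), (.c, true), (.g, true), (.f, true), (.h, true), (.d, true), (.e, true), (.d, true), (.h, true), (.f, true), (.g, true), (.c, true), (.d, true), (.e, true), (.f, true), (.i, true), (.d, true), (.c, true), (.e, true), (.h, true), (.d, true), (.h, true), (.e, true), (.c, true), (.d, true), (.f, true), (.e, true), (.d, true), (.c, true), (.g, true), (.f, true), (.h, true), (.d, true), (.e, true), (.d, true), (.h, true), (.f, true), (.g, true), (.c, true), (.d, true), (.e, true), (.f, true), (.i, true), (.d, true), (.c, true), (.e, true), (.h, true), (.d, true), (.h, true), (.e, true), (.c, true), (.d, true), (.i, true), (.b, true), (.c, true), (.b, true), (.f, true), (.e, true), (.d, true), (.c, true), (.g, true), (.f, true), (.h, true), (.d, true), (.e, true), (.d, true), (.h, true), (.f, true), (.g, true), (.c, true), (.d, true), (.e, true), (.f, true), (.i, true), (.d, true), (.c, true), (.e, true), (.h, true), (.d, true), (.h, true), (.e, true), (.c, true), (.d, true), (.f, true), (.e, true), (.d, true), (.c, true), (.g, true), (.f, true), (.h, true), (.d, true), (.e, true), (.d, true), (.h, true), (.f, true), (.g, true), (.c, true), (.d, true), (.e, true), (.f, true), (.i, true), (.d, true), (.c, true),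 (.e, true), (.h, true), (.d, true), (.h, true), (.e, true), (.c, true), (.d, true), (.i, true), (.b, true), (.c, true), (.b, true), (.f, true), (.e, true), (.d, true), (.c, true), (.g, true), (.f, true), (.h, true), (.d, true), (.e, true), (.d, true), (.h, true), (.f, true), (.g, true), (.c, true), (.d, true), (.e, true), (.f, true), (.i, true), (.d, true), (.c, true), (.e, true), (.h, true), (.d, true), (.h, true), (.e, true), (.c, true), (.d, true), (.a, true), (.c, true), (.b, true), (.d, true), (.c, true), (.e, true), (.h, true), (.d, true), (.h, true), (.e, true), (.c, true), (.d, true), (.b, true), (.c, true), (.a, true), (.f, true), (.e, true), (.d, true), (.c, true), (.g, true), (.f, true), (.h, true), (.d, true), (.e, true), (.d, true), (.h, true), (.f, true), (.g, true), (.c, true), (.d, true), (.e, true), (.f, true), (.i, true), (.d, true), (.c, true), (.e, true), (.h, true), (.d, true), (.h, true), (.e, true), (.c, true), (.d, true), (.i, true), (.b, true), (.c, true), (.b, true), (.f, true), (.e, true), (.d, true), (.c, true), (.g, true), (.f, true), (.h, true), (.d, true), (.e, true), (.d, true), (.h, true), (.f, true), (.g, true), (.c, true), (.d, true), (.e, true), (.f, true), (.i, true), (.d, true), (.c, true), (.e, true),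 (.h, true), (.d, true), (.h, true), (.e, true), (.c, true), (.d, true), (.b, true)],
  W [(.b, true), (.d, true), (.c, true), (.e, true), (.h, true), (.d, true), (.h, true), (.e, true), (.c, true), (.d, true), (.i, true), (.f, true), (.e, true), (.d, true), (.c, true), (.g, true), (.f, true), (.h, true), (.d, true), (.e, true), (.d, true), (.h, true), (.f, true), (.g, true), (.c, true), (.d, true), (.e, true), (.f, true), (.b, true), (.c, true), (.b, true), (.i, true), (.d, true), (.c, true), (.e, true), (.h, true), (.d, true), (.h, true), (.e, true), (.c, true), (.d, true), (.i, true), (.f, true), (.e, true), (.d, true), (.c, true), (.g, true), (.f, true), (.h, true), (.d, true), (.e, true), (.d, true), (.h, true), (.f, true), (.g, true), (.c, true), (.d, true), (.e, true), (.f, true), (.b, true), (.d, true), (.c, true), (.e, true), (.h, true), (.d, true), (.h, true), (.e, true), (.c, true), (.d, true), (.b, true), (.f, true), (.e, true), (.d, true), (.c, true), (.g, true), (.f, true), (.h, true), (.d, true), (.e, true), (.d, true), (.h, true), (.f, true), (.g, true), (.c, true), (.d, true), (.e, true), (.f, true), (.i, true), (.d, true), (.c, true), (.e, true), (.h, true), (.d, true), (.h, true), (.e, true), (.c, true), (.d, true), (.i, true),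 (.b, true), (.c, true), (.b, true), (.f, true), (.e, true), (.d, true), (.c, true), (.g, true), (.f, true), (.h, true), (.d, true), (.e, true), (.d, true), (.h, true), (.f, true), (.g, true), (.c, true), (.d, true), (.e, true), (.f, true), (.i, true), (.d, true), (.c, true), (.e, true), (.h, true), (.d, true), (.h, true), (.e, true), (.c, true), (.d, true), (.b, true), (.d, true), (.c, true), (.e, true), (.h, true), (.d, true), (.h, true), (.e, true), (.c, true), (.d, true), (.b, true), (.d, true), (.c, true), (.e, true), (.h, true), (.d, true), (.h, true), (.e, true), (.c, true), (.d, true), (.i, true), (.f, true), (.e, true), (.d, true), (.c, true), (.g, true), (.f, true), (.h, true), (.d, true), (.e, true), (.d, true), (.h, true), (.f, true), (.g, true), (.c, true), (.d, true), (.e, true), (.f, true), (.b, true), (.c, true), (.b, true), (.i, true), (.d, true), (.c, true), (.e, true), (.h, true), (.d, true), (.h, true), (.e, true), (.c, true), (.d, true), (.i, true), (.f, true), (.e, true), (.d, true), (.c, true), (.g, true), (.f, true), (.h, true), (.d, true), (.e, true), (.d, true), (.h, true), (.f, true), (.g, true), (.c, true), (.d, true), (.e, true), (.f, true), (.a, true), (.c, true), (.b, true), (.d, true), (.c, true), (.e, true),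 (.h, true), (.d, true), (.h, true), (.e, true), (.c, true), (.d, true), (.b, true), (.c, true), (.a, true), (.f, true), (.e, true), (.d, true), (.c, true), (.g, true), (.f, true), (.h, true), (.d, true), (.e, true), (.d, true), (.h, true), (.f, true), (.g, true), (.c, true), (.d, true), (.e, true), (.f, true), (.i, true), (.d, true), (.c, true), (.e, true), (.h, true), (.d, true), (.h, true), (.e, true), (.c, true), (.d, true), (.i, true), (.b, true), (.c, true), (.b, true), (.f, true), (.e, true), (.d, true), (.c, true), (.g, true), (.f, true), (.h, true), (.d, true), (.e, true), (.d, true), (.h, true), (.f, true), (.g, true), (.c, true), (.d, true), (.e, true), (.f, true), (.i, true), (.d, true), (.c, true), (.e, true), (.h, true), (.d, true), (.h, true), (.e, true), (.c, true), (.d, true), (.b, true), (.d, true), (.c, true), (.e, true), (.h, true), (.d, true), (.h, true), (.e, true), (.c, true), (.d, true), (.b, true), (.d, true), (.c, true), (.e, true), (.h, true), (.d, true), (.h, true), (.e, true), (.c, true), (.d, true), (.i, true), (.f, true), (.e, true), (.d, true), (.c, true), (.g, true), (.f, true), (.h, true), (.d, true), (.e, true), (.d, true), (.h, true), (.f, true), (.g, true), (.c, true), (.d, true), (.e, true), (.f, true),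 (.b, true), (.c, true), (.b, true), (.i, true), (.d, true), (.c, true), (.e, true), (.h, true), (.d, true), (.h, true), (.e, true), (.c, true), (.d, true), (.i, true), (.f, true), (.e, true), (.d, true), (.c, true), (.g, true), (.f, true), (.h, true), (.d, true), (.e, true), (.d, true), (.h, true), (.f, true), (.g, true), (.c, true), (.d, true), (.e, true), (.f, true), (.b, true), (.d, true), (.c, true), (.e, true), (.h, true), (.d, true), (.h, true), (.e, true), (.c, true), (.d, true), (.b, true), (.f, true), (.e, true), (.d, true), (.c, true), (.g, true), (.f, true), (.h, true), (.d, true), (.e, true), (.d, true), (.h, true), (.f, true), (.g, true), (.c, true), (.d, true), (.e, true), (.f, true), (.i, true), (.d, true), (.c, true), (.e, true), (.h, true), (.d, true), (.h, true), (.e, true), (.c, true), (.d, true), (.i, true), (.b, true), (.c, true), (.b, true), (.f, true), (.e, true), (.d, true), (.c, true), (.g, true), (.f, true), (.h, true), (.d, true), (.e, true), (.d, true), (.h, true), (.f, true), (.g, true), (.c, true), (.d, true), (.e, true), (.f, true), (.i, true), (.d, true), (.c, true), (.e, true), (.h, true), (.d, true), (.h, true), (.e, true), (.c, true), (.d, true), (.b, true)],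
  W [(.b, true), (.d, true), (.c, true), (.e, true), (.h, true), (.d, true), (.h, true), (.e, true), (.c, true), (.d, true), (.i, true), (.f, true), (.e, true), (.d, true), (.c, true), (.g, true), (.f, true), (.h, true), (.d, true), (.e, true), (.d, true), (.h, true), (.f, true), (.g, true), (.c, true), (.d, true), (.e, true), (.f, true), (.b, true), (.c, true), (.b, true), (.i, true), (.d, true), (.c, true), (.e, true), (.h, true), (.d, true), (.h, true), (.e, true), (.c, true), (.d, true), (.i, true), (.f, true), (.e, true), (.d, true), (.c, true), (.g, true), (.f, true), (.h, true), (.d, true), (.e, true), (.d, true), (.h, true), (.f, true), (.g, true), (.c, true), (.d, true), (.e, true), (.f, true), (.b, true), (.d, true), (.c, true), (.e, true), (.h, true), (.d, true), (.h, true), (.e, true), (.c, true), (.d, true), (.b, true), (.f, true), (.e, true), (.d, true), (.c, true), (.g, true), (.f, true), (.h, true), (.d, true), (.e, true), (.d, true), (.h, true), (.f, true), (.g, true), (.c, true), (.d, true), (.e, true), (.f, true), (.i, true), (.d, true), (.c, true), (.e, true), (.h, true), (.d, true), (.h, true), (.e, true), (.c, true), (.d, true), (.i, true), (.b, true), (.c, true), (.b, true), (.f, true), (.e, true), (.d, true), (.c, true),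 (.g, true), (.f, true), (.h, true), (.d, true), (.e, true), (.d, true), (.h, true), (.f, true), (.g, true), (.c, true), (.d, true), (.e, true), (.f, true), (.i, true), (.d, true), (.c, true), (.e, true), (.h, true), (.d, true), (.h, true), (.e, true), (.c, true), (.d, true), (.a, true), (.c, true), (.b, true), (.d, true), (.c, true), (.e, true), (.h, true), (.d, true), (.h, true), (.e, true), (.c, true), (.d, true), (.b, true), (.c, true), (.a, true), (.d, true), (.c, true), (.e, true), (.h, true), (.d, true), (.h, true), (.e, true), (.c, true), (.d, true), (.i, true), (.f, true), (.e, true), (.d, true), (.c, true), (.g, true), (.f, true), (.h, true), (.d, true), (.e, true), (.d, true), (.h, true), (.f, true), (.g, true), (.c, true), (.d, true), (.e, true), (.f, true), (.b, true), (.c, true), (.b, true), (.i, true), (.d, true), (.c, true), (.e, true), (.h, true), (.d, true), (.h, true), (.e, true), (.c, true), (.d, true), (.i, true), (.f, true), (.e, true), (.d, true), (.c, true), (.g, true), (.f, true), (.h, true), (.d, true), (.e, true), (.d, true), (.h, true), (.f, true), (.g, true), (.c, true), (.d, true), (.e, true), (.f, true), (.a, true), (.c, true), (.b, true), (.d, true), (.c, true), (.e, true), (.h, true), (.d, true), (.h, true),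 (.e, true), (.c, true), (.d, true), (.b, true), (.c, true), (.a, true), (.f, true), (.e, true), (.d, true), (.c, true), (.g, true), (.f, true), (.h, true), (.d, true), (.e, true), (.d, true), (.h, true), (.f, true), (.g, true), (.c, true), (.d, true), (.e, true), (.f, true), (.i, true), (.d, true), (.c, true), (.e, true), (.h, true), (.d, true), (.h, true), (.e, true), (.c, true), (.d, true), (.i, true), (.b, true), (.c, true), (.b, true), (.f, true), (.e, true), (.d, true), (.c, true), (.g, true), (.f, true), (.h, true), (.d, true), (.e, true), (.d, true), (.h, true), (.f, true), (.g, true), (.c, true), (.d, true), (.e, true), (.f, true), (.i, true), (.d, true), (.c, true), (.e, true), (.h, true), (.d, true), (.h, true), (.e, true), (.c, true), (.d, true), (.a, true), (.c, true), (.b, true), (.d, true), (.c, true), (.e, true), (.h, true), (.d, true), (.h, true), (.e, true), (.c, true), (.d, true), (.b, true), (.c, true), (.a, true), (.d, true), (.c, true), (.e, true), (.h, true), (.d, true), (.h, true), (.e, true), (.c, true), (.d, true), (.i, true), (.f, true), (.e, true), (.d, true), (.c, true), (.g, true), (.f, true), (.h, true), (.d, true), (.e, true), (.d, true), (.h, true), (.f, true), (.g, true), (.c, true), (.d, true), (.e, true),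 (.f, true), (.b, true), (.c, true), (.b, true), (.i, true), (.d, true), (.c, true), (.e, true), (.h, true), (.d, true), (.h, true), (.e, true), (.c, true), (.d, true), (.i, true), (.f, true), (.e, true), (.d, true), (.c, true), (.g, true), (.f, true), (.h, true), (.d, true), (.e, true), (.d, true), (.h, true), (.f, true), (.g, true), (.c, true), (.d, true), (.e, true), (.f, true), (.b, true), (.d, true), (.c, true), (.e, true), (.h, true), (.d, true), (.h, true), (.e, true), (.c, true), (.d, true), (.b, true), (.f, true), (.e, true), (.d, true), (.c, true), (.g, true), (.f, true), (.h, true), (.d, true), (.e, true), (.d, true), (.h, true), (.f, true), (.g, true), (.c, true), (.d, true), (.e, true), (.f, true), (.i, true), (.d, true), (.c, true), (.e, true), (.h, true), (.d, true), (.h, true), (.e, true), (.c, true), (.d, true), (.i, true), (.b, true), (.c, true), (.b, true), (.f, true), (.e, true), (.d, true), (.c, true), (.g, true), (.f, true), (.h, true), (.d, true), (.e, true), (.d, true), (.h, true), (.f, true), (.g, true), (.c, true), (.d, true), (.e, true), (.f, true), (.i, true), (.d, true), (.c, true), (.e, true), (.h, true), (.d, true), (.h, true), (.e, true), (.c, true), (.d, true), (.b, true)],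
  W [(.b, true), (.d, true), (.c, true), (.e, true), (.h, true), (.d, true), (.h, true), (.e, true), (.c, true), (.d, true), (.i, true), (.f, true), (.e, true), (.d, true), (.c, true), (.g, true), (.f, true), (.h, true), (.d, true), (.e, true), (.d, true), (.h, true), (.f, true), (.g, true), (.c, true), (.d, true), (.e, true), (.f, true), (.b, true), (.c, true), (.b, true), (.i, true), (.d, true), (.c, true), (.e, true), (.h, true), (.d, true), (.h, true), (.e, true), (.c, true), (.d, true), (.i, true), (.f, true), (.e, true), (.d, true), (.c, true), (.g, true), (.f, true), (.h, true), (.d, true), (.e, true), (.d, true), (.h, true), (.f, true), (.g, true), (.c, true), (.d, true), (.e, true), (.f, true), (.d, true), (.c, true), (.e, true), (.h, true), (.d, true), (.h, true), (.e, true), (.c, true), (.d, true), (.i, true), (.f, true), (.e, true), (.d, true), (.c, true), (.g, true), (.f, true), (.h, true), (.d, true), (.e, true), (.d, true), (.h, true), (.f, true), (.g, true), (.c, true), (.d, true), (.e, true), (.f, true), (.b, true), (.c, true), (.b, true), (.i, true), (.d, true), (.c, true), (.e, true), (.h, true), (.d, true), (.h, true), (.e, true), (.c, true), (.d, true), (.i, true), (.f, true), (.e, true), (.d, true), (.c, true), (.g, true),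 (.f, true), (.h, true), (.d, true), (.e, true), (.d, true), (.h, true), (.f, true), (.g, true), (.c, true), (.d, true), (.e, true), (.f, true), (.d, true), (.c, true), (.e, true), (.h, true), (.d, true), (.h, true), (.e, true), (.c, true), (.d, true), (.i, true), (.f, true), (.e, true), (.d, true), (.c, true), (.g, true), (.f, true), (.h, true), (.d, true), (.e, true), (.d, true), (.h, true), (.f, true), (.g, true), (.c, true), (.d, true), (.e, true), (.f, true), (.b, true), (.c, true), (.b, true), (.i, true), (.d, true), (.c, true), (.e, true), (.h, true), (.d, true), (.h, true), (.e, true), (.c, true), (.d, true), (.i, true), (.f, true), (.e, true), (.d, true), (.c, true), (.g, true), (.f, true), (.h, true), (.d, true), (.e, true), (.d, true), (.h, true), (.f, true), (.g, true), (.c, true), (.d, true), (.e, true), (.f, true), (.d, true), (.c, true), (.e, true), (.h, true), (.d, true), (.h, true), (.e, true), (.c, true), (.d, true), (.i, true), (.f, true), (.e, true), (.d, true), (.c, true), (.g, true), (.f, true), (.h, true), (.d, true), (.e, true), (.d, true), (.h, true), (.f, true), (.g, true), (.c, true), (.d, true), (.e, true), (.f, true), (.b, true), (.c, true), (.b, true), (.i, true), (.d, true), (.c, true), (.e, true), (.h, true),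 (.d, true), (.h, true), (.e, true), (.c, true), (.d, true), (.i, true), (.f, true), (.e, true), (.d, true), (.c, true), (.g, true), (.f, true), (.h, true), (.d, true), (.e, true), (.d, true), (.h, true), (.f, true), (.g, true), (.c, true), (.d, true), (.e, true), (.f, true), (.b, true), (.d, true), (.c, true), (.e, true), (.h, true), (.d, true), (.h, true), (.e, true), (.c, true), (.d, true), (.b, true), (.f, true), (.e, true), (.d, true), (.c, true), (.g, true), (.f, true), (.h, true), (.d, true), (.e, true), (.d, true), (.h, true), (.f, true), (.g, true), (.c, true), (.d, true), (.e, true), (.f, true), (.i, true), (.d, true), (.c, true), (.e, true), (.h, true), (.d, true), (.h, true), (.e, true), (.c, true), (.d, true), (.i, true), (.b, true), (.c, true), (.b, true), (.f, true), (.e, true), (.d, true), (.c, true), (.g, true), (.f, true), (.h, true), (.d, true), (.e, true), (.d, true), (.h, true), (.f, true), (.g, true), (.c, true), (.d, true), (.e, true), (.f, true), (.i, true), (.d, true), (.c, true), (.e, true), (.h, true), (.d, true), (.h, true), (.e, true), (.c, true), (.d, true), (.f, true), (.e, true), (.d, true), (.c, true), (.g, true), (.f, true), (.h, true), (.d, true), (.e, true), (.d, true), (.h, true), (.f, true), (.g, true),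 (.c, true), (.d, true), (.e, true), (.f, true), (.i, true), (.d, true), (.c, true), (.e, true), (.h, true), (.d, true), (.h, true), (.e, true), (.c, true), (.d, true), (.i, true), (.b, true), (.c, true), (.b, true), (.f, true), (.e, true), (.d, true), (.c, true), (.g, true), (.f, true), (.h, true), (.d, true), (.e, true), (.d, true), (.h, true), (.f, true), (.g, true), (.c, true), (.d, true), (.e, true), (.f, true), (.i, true), (.d, true), (.c, true), (.e, true), (.h, true), (.d, true), (.h, true), (.e, true), (.c, true), (.d, true), (.f, true), (.e, true), (.d, true), (.c, true), (.g, true), (.f, true), (.h, true), (.d, true), (.e, true), (.d, true), (.h, true), (.f, true), (.g, true), (.c, true), (.d, true), (.e, true), (.f, true), (.i, true), (.d, true), (.c, true), (.e, true), (.h, true), (.d, true), (.h, true), (.e, true), (.c, true), (.d, true), (.i, true), (.b, true), (.c, true), (.b, true), (.f, true), (.e, true), (.d, true), (.c, true), (.g, true), (.f, true), (.h, true), (.d, true), (.e, true), (.d, true), (.h, true), (.f, true), (.g, true), (.c, true), (.d, true), (.e, true), (.f, true), (.i, true), (.d, true), (.c, true), (.e, true), (.h, true), (.d, true), (.h, true), (.e, true), (.c, true), (.d, true), (.f, true), (.e, true),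 (.d, true), (.c, true), (.g, true), (.f, true), (.h, true), (.d, true), (.e, true), (.d, true), (.h, true), (.f, true), (.g, true), (.c, true), (.d, true), (.e, true), (.f, true), (.i, true), (.d, true), (.c, true), (.e, true), (.h, true), (.d, true), (.h, true), (.e, true), (.c, true), (.d, true), (.i, true), (.b, true), (.c, true), (.b, true), (.f, true), (.e, true), (.d, true), (.c, true), (.g, true), (.f, true), (.h, true), (.d, true), (.e, true), (.d, true), (.h, true), (.f, true), (.g, true), (.c, true), (.d, true), (.e, true), (.f, true), (.i, true), (.d, true), (.c, true), (.e, true), (.h, true), (.d, true), (.h, true), (.e, true), (.c, true), (.d, true), (.b, true)],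
  W [(.b, true), (.d, true), (.c, true), (.e, true), (.h, true), (.d, true), (.h, true), (.e, true), (.c, true), (.d, true), (.i, true), (.f, true), (.e, true), (.d, true), (.c, true), (.g, true), (.f, true), (.h, true), (.d, true), (.e, true), (.d, true), (.h, true), (.f, true), (.g, true), (.c, true), (.d, true), (.e, true), (.f, true), (.b, true), (.c, true), (.b, true), (.i, true), (.d, true), (.c, true), (.e, true), (.h, true), (.d, true), (.h, true), (.e, true), (.c, true), (.d, true), (.i, true), (.f, true), (.e, true), (.d, true), (.c, true), (.g, true), (.f, true), (.h, true), (.d, true), (.e, true), (.d, true), (.h, true), (.f, true), (.g, true), (.c, true), (.d, true), (.e, true), (.f, true), (.b, true), (.d, true), (.c, true), (.e, true), (.h, true), (.d, true), (.h, true), (.e, true), (.c, true), (.d, true), (.b, true), (.f, true), (.e, true), (.d, true), (.c, true), (.g, true), (.f, true), (.h, true), (.d, true), (.e, true), (.d, true), (.h, true), (.f, true), (.g, true), (.c, true), (.d, true), (.e, true), (.f, true), (.i, true), (.d, true), (.c, true), (.e, true), (.h, true), (.d, true), (.h, true), (.e, true), (.c, true), (.d, true), (.i, true), (.b, true), (.c, true), (.b, true), (.f, true), (.e, true), (.d, true), (.c, true),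 (.g, true), (.f, true), (.h, true), (.d, true), (.e, true), (.d, true), (.h, true), (.f, true), (.g, true), (.c, true), (.d, true), (.e, true), (.f, true), (.i, true), (.d, true), (.c, true), (.e, true), (.h, true), (.d, true), (.h, true), (.e, true), (.c, true), (.d, true), (.b, true), (.d, true), (.c, true), (.e, true), (.h, true), (.d, true), (.h, true), (.e, true), (.c, true), (.d, true), (.b, true), (.a, true), (.c, true), (.b, true), (.d, true), (.c, true), (.e, true), (.h, true), (.d, true), (.h, true), (.e, true), (.c, true), (.d, true), (.b, true), (.c, true), (.a, true), (.f, true), (.e, true), (.d, true), (.c, true), (.g, true), (.f, true), (.h, true), (.d, true), (.e, true), (.d, true), (.h, true), (.f, true), (.g, true), (.c, true), (.d, true), (.e, true), (.f, true), (.i, true), (.d, true), (.c, true), (.e, true), (.h, true), (.d, true), (.h, true), (.e, true), (.c, true), (.d, true), (.i, true), (.b, true), (.c, true), (.b, true), (.f, true), (.e, true), (.d, true), (.c, true), (.g, true), (.f, true), (.h, true), (.d, true), (.e, true), (.d, true), (.h, true), (.f, true), (.g, true), (.c, true), (.d, true), (.e, true), (.f, true), (.i, true), (.d, true), (.c, true), (.e, true), (.h, true), (.d, true), (.h, true), (.e, true),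 (.c, true), (.d, true), (.f, true), (.e, true), (.d, true), (.c, true), (.g, true), (.f, true), (.h, true), (.d, true), (.e, true), (.d, true), (.h, true), (.f, true), (.g, true), (.c, true), (.d, true), (.e, true), (.f, true), (.i, true), (.d, true), (.c, true), (.e, true), (.h, true), (.d, true), (.h, true), (.e, true), (.c, true), (.d, true), (.i, true), (.b, true), (.c, true), (.b, true), (.f, true), (.e, true), (.d, true), (.c, true), (.g, true), (.f, true), (.h, true), (.d, true), (.e, true), (.d, true), (.h, true), (.f, true), (.g, true), (.c, true), (.d, true), (.e, true), (.f, true), (.i, true), (.d, true), (.c, true), (.e, true), (.h, true), (.d, true), (.h, true), (.e, true), (.c, true), (.d, true), (.f, true), (.e, true), (.d, true), (.c, true), (.g, true), (.f, true), (.h, true), (.d, true), (.e, true), (.d, true), (.h, true), (.f, true), (.g, true), (.c, true), (.d, true), (.e, true), (.f, true), (.i, true), (.d, true), (.c, true), (.e, true), (.h, true), (.d, true), (.h, true), (.e, true), (.c, true), (.d, true), (.i, true), (.b, true), (.c, true), (.b, true), (.f, true), (.e, true), (.d, true), (.c, true), (.g, true), (.f, true), (.h, true), (.d, true), (.e, true), (.d, true), (.h, true), (.f, true), (.g, true), (.c, true),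 (.d, true), (.e, true), (.f, true), (.i, true), (.d, true), (.c, true), (.e, true), (.h, true), (.d, true), (.h, true), (.e, true), (.c, true), (.d, true), (.a, true), (.c, true), (.b, true), (.d, true), (.c, true), (.e, true), (.h, true), (.d, true), (.h, true), (.e, true), (.c, true), (.d, true), (.b, true), (.c, true), (.a, true), (.b, true), (.d, true), (.c, true), (.e, true), (.h, true), (.d, true), (.h, true), (.e, true), (.c, true), (.d, true), (.b, true), (.d, true), (.c, true), (.e, true), (.h, true), (.d, true), (.h, true), (.e, true), (.c, true), (.d, true), (.i, true), (.f, true), (.e, true), (.d, true), (.c, true), (.g, true), (.f, true), (.h, true), (.d, true), (.e, true), (.d, true), (.h, true), (.f, true), (.g, true), (.c, true), (.d, true), (.e, true), (.f, true), (.b, true), (.c, true), (.b, true), (.i, true), (.d, true), (.c, true), (.e, true), (.h, true), (.d, true), (.h, true), (.e, true), (.c, true), (.d, true), (.i, true), (.f, true), (.e, true), (.d, true), (.c, true), (.g, true), (.f, true), (.h, true), (.d, true), (.e, true), (.d, true), (.h, true), (.f, true), (.g, true), (.c, true), (.d, true), (.e, true), (.f, true), (.b, true), (.d, true), (.c, true), (.e, true), (.h, true), (.d, true), (.h, true), (.e, true),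 (.c, true), (.d, true), (.b, true), (.f, true), (.e, true), (.d, true), (.c, true), (.g, true), (.f, true), (.h, true), (.d, true), (.e, true), (.d, true), (.h, true), (.f, true), (.g, true), (.c, true), (.d, true), (.e, true), (.f, true), (.i, true), (.d, true), (.c, true), (.e, true), (.h, true), (.d, true), (.h, true), (.e, true), (.c, true), (.d, true), (.i, true), (.b, true), (.c, true), (.b, true), (.f, true), (.e, true), (.d, true), (.c, true), (.g, true), (.f, true), (.h, true), (.d, true), (.e, true), (.d, true), (.h, true), (.f, true), (.g, true), (.c, true), (.d, true), (.e, true), (.f, true), (.i, true), (.d, true), (.c, true), (.e, true), (.h, true), (.d, true), (.h, true), (.e, true), (.c, true), (.d, true), (.b, true)],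
  W [(.b, true), (.d, true), (.c, true), (.e, true), (.h, true), (.d, true), (.h, true), (.e, true), (.c, true), (.d, true), (.i, true), (.f, true), (.e, true), (.d, true), (.c, true), (.g, true), (.f, true), (.h, true), (.d, true), (.e, true), (.d, true), (.h, true), (.f, true), (.g, true), (.c, true), (.d, true), (.e, true), (.f, true), (.b, true), (.c, true), (.b, true), (.i, true), (.d, true), (.c, true), (.e, true), (.h, true), (.d, true), (.h, true), (.e, true), (.c, true), (.d, true), (.i, true), (.f, true), (.e, true), (.d, true), (.c, true), (.g, true), (.f, true), (.h, true), (.d, true), (.e, true), (.d, true), (.h, true), (.f, true), (.g, true), (.c, true), (.d, true), (.e, true), (.f, true), (.b, true), (.d, true), (.c, true), (.e, true), (.h, true), (.d, true), (.h, true), (.e, true), (.c, true), (.d, true), (.b, true), (.f, true), (.e, true), (.d, true), (.c, true), (.g, true), (.f, true), (.h, true), (.d, true), (.e, true), (.d, true), (.h, true), (.f, true), (.g, true), (.c, true), (.d, true), (.e, true), (.f, true), (.i, true), (.d, true), (.c, true), (.e, true), (.h, true), (.d, true), (.h, true), (.e, true), (.c, true), (.d, true), (.i, true), (.b, true), (.c, true), (.b, true), (.f, true), (.e, true), (.d, true), (.c, true),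 (.g, true), (.f, true), (.h, true), (.d, true), (.e, true), (.d, true), (.h, true), (.f, true), (.g, true), (.c, true), (.d, true), (.e, true), (.f, true), (.i, true), (.d, true), (.c, true), (.e, true), (.h, true), (.d, true), (.h, true), (.e, true), (.c, true), (.d, true), (.b, true), (.d, true), (.c, true), (.e, true), (.h, true), (.d, true), (.h, true), (.e, true), (.c, true), (.d, true), (.b, true), (.a, true), (.c, true), (.b, true), (.d, true), (.c, true), (.e, true), (.h, true), (.d, true), (.h, true), (.e, true), (.c, true), (.d, true), (.b, true), (.c, true), (.a, true), (.d, true), (.c, true), (.e, true), (.h, true), (.d, true), (.h, true), (.e, true), (.c, true), (.d, true), (.i, true), (.f, true), (.e, true), (.d, true), (.c, true), (.g, true), (.f, true), (.h, true), (.d, true), (.e, true), (.d, true), (.h, true), (.f, true), (.g, true), (.c, true), (.d, true), (.e, true), (.f, true), (.b, true), (.c, true), (.b, true), (.i, true), (.d, true), (.c, true), (.e, true), (.h, true), (.d, true), (.h, true), (.e, true), (.c, true), (.d, true), (.i, true), (.f, true), (.e, true), (.d, true), (.c, true), (.g, true), (.f, true), (.h, true), (.d, true), (.e, true), (.d, true), (.h, true), (.f, true), (.g, true), (.c, true), (.d, true),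 (.e, true), (.f, true), (.b, true), (.d, true), (.c, true), (.e, true), (.h, true), (.d, true), (.h, true), (.e, true), (.c, true), (.d, true), (.b, true), (.d, true), (.c, true), (.e, true), (.h, true), (.d, true), (.h, true), (.e, true), (.c, true), (.d, true), (.i, true), (.f, true), (.e, true), (.d, true), (.c, true), (.g, true), (.f, true), (.h, true), (.d, true), (.e, true), (.d, true), (.h, true), (.f, true), (.g, true), (.c, true), (.d, true), (.e, true), (.f, true), (.b, true), (.c, true), (.b, true), (.i, true), (.d, true), (.c, true), (.e, true), (.h, true), (.d, true), (.h, true), (.e, true), (.c, true), (.d, true), (.i, true), (.f, true), (.e, true), (.d, true), (.c, true), (.g, true), (.f, true), (.h, true), (.d, true), (.e, true), (.d, true), (.h, true), (.f, true), (.g, true), (.c, true), (.d, true), (.e, true), (.f, true), (.b, true), (.d, true), (.c, true), (.e, true), (.h, true), (.d, true), (.h, true), (.e, true), (.c, true), (.d, true), (.b, true), (.f, true), (.e, true), (.d, true), (.c, true), (.g, true), (.f, true), (.h, true), (.d, true), (.e, true), (.d, true), (.h, true), (.f, true), (.g, true), (.c, true), (.d, true), (.e, true), (.f, true), (.i, true), (.d, true), (.c, true), (.e, true), (.h, true), (.d, true),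 (.h, true), (.e, true), (.c, true), (.d, true), (.i, true), (.b, true), (.c, true), (.b, true), (.f, true), (.e, true), (.d, true), (.c, true), (.g, true), (.f, true), (.h, true), (.d, true), (.e, true), (.d, true), (.h, true), (.f, true), (.g, true), (.c, true), (.d, true), (.e, true), (.f, true), (.i, true), (.d, true), (.c, true), (.e, true), (.h, true), (.d, true), (.h, true), (.e, true), (.c, true), (.d, true), (.b, true), (.d, true), (.c, true), (.e, true), (.h, true), (.d, true), (.h, true), (.e, true), (.c, true), (.d, true), (.b, true), (.f, true), (.e, true), (.d, true), (.c, true), (.g, true), (.f, true), (.h, true), (.d, true), (.e, true), (.d, true), (.h, true), (.f, true), (.g, true), (.c, true), (.d, true), (.e, true), (.f, true), (.i, true), (.d, true), (.c, true), (.e, true), (.h, true), (.d, true), (.h, true), (.e, true), (.c, true), (.d, true), (.i, true), (.b, true), (.c, true), (.b, true), (.f, true), (.e, true), (.d, true), (.c, true), (.g, true), (.f, true), (.h, true), (.d, true), (.e, true), (.d, true), (.h, true), (.f, true), (.g, true), (.c, true), (.d, true), (.e, true), (.f, true), (.i, true), (.d, true), (.c, true), (.e, true), (.h, true), (.d, true), (.h, true), (.e, true), (.c, true), (.d, true), (.a, true),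 (.c, true), (.b, true), (.d, true), (.c, true), (.e, true), (.h, true), (.d, true), (.h, true), (.e, true), (.c, true), (.d, true), (.b, true), (.c, true), (.a, true), (.b, true), (.d, true), (.c, true), (.e, true), (.h, true), (.d, true), (.h, true), (.e, true), (.c, true), (.d, true), (.b, true), (.d, true), (.c, true), (.e, true), (.h, true), (.d, true), (.h, true), (.e, true), (.c, true), (.d, true), (.i, true), (.f, true), (.e, true), (.d, true), (.c, true), (.g, true), (.f, true), (.h, true), (.d, true), (.e, true), (.d, true), (.h, true), (.f, true), (.g, true), (.c, true), (.d, true), (.e, true), (.f, true), (.b, true), (.c, true), (.b, true), (.i, true), (.d, true), (.c, true), (.e, true), (.h, true), (.d, true), (.h, true), (.e, true), (.c, true), (.d, true), (.i, true), (.f, true), (.e, true), (.d, true), (.c, true), (.g, true), (.f, true), (.h, true), (.d, true), (.e, true), (.d, true), (.h, true), (.f, true), (.g, true), (.c, true), (.d, true), (.e, true), (.f, true), (.b, true), (.d, true), (.c, true), (.e, true), (.h, true), (.d, true), (.h, true), (.e, true), (.c, true), (.d, true), (.b, true), (.f, true), (.e, true), (.d, true), (.c, true), (.g, true), (.f, true), (.h, true), (.d, true), (.e, true), (.d, true), (.h, true),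 (.f, true), (.g, true), (.c, true), (.d, true), (.e, true), (.f, true), (.i, true), (.d, true), (.c, true), (.e, true), (.h, true), (.d, true), (.h, true), (.e, true), (.c, true), (.d, true), (.i, true), (.b, true), (.c, true), (.b, true), (.f, true), (.e, true), (.d, true), (.c, true), (.g, true), (.f, true), (.h, true), (.d, true), (.e, true), (.d, true), (.h, true), (.f, true), (.g, true), (.c, true), (.d, true), (.e, true), (.f, true), (.i, true), (.d, true), (.c, true), (.e, true), (.h, true), (.d, true), (.h, true), (.e, true), (.c, true), (.d, true), (.b, true)]]

/-- The mask of level 6. -/
def M6 : ℕ := nat_lit 0x40000000000000000000000000000000000000000000000000000000000000000000000000000000000000000000000000000000000000000000000000000000000000000000000000000000000000000000000000000000000000000000000000000000000000000000000000000000000000000000000000000000000000000000000000000000000000000000000000000000000000000000000000000000000000000000000000000001000000000000000000000000000000000000000000000000000000000000000000000000000000000000000000000000000000000000000800000000000000000000000000000000000000000000000000000000000000000000000000000000000000006000000000000000000000000000000000000000000010000000000000000000000000000000000000000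0000000000000000000000000000000000000000000000000000000000000000000000000000000000000000000000000000000000000000000000000000000000000000000000000000000000000000000000000000000000000000000000000000000000000000000000000000000000000000000000000000000000030000000000000000000060000000000000000000000000000000000000000000000000000000000000000000000000000000000000000000000300000000000000000000000000000000000000000000000000000000000000000000000000000010000000000000c0000000000000000000000000000000000000000038000000000000000000000000000000000000000000000000000000000000000000000000000000000000000000000000000000000000000000000000000000000000000000000000000000000000000000000000000000000000000000000000000000000000000000000000000000000000000000000000000000000000000000000000000000002000000000000000000000000000000000000000000000000000000000000000000000000000000000000000000200000000000000000000000000000000000000000000000000000000000000000000000000000000000000000000000000000000000000000000000000000000000001c00000000000000000000000000000000000000000000000000000000000000000000000000000000000000000000000000000000000000000000000000000000000000000000000000001000000000000000000000000000000000000000000000000000000000000000000000000000000000000000000000000000000000000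000000000000000000000000000000000000000000000000000000000000000000000000000000000000000000000000000000000000000000000000000000000000000000000000000000000000000000000000000000000000800000000000000000000000000000000000000000000000000000000100000000000000000000000000000000000000000000010000000000020000000000000000000000000000000000000000000000000000000000000000000000000000000000000000000000000000000000000000000000000000000000000000000000000000000000000000000000000000000000000000000000000000000000000000000000000000000000000000000000000000000000000000000000000000000000000000000000000000000000000000200000000004000000000000000000000000000000002000000000000000000000000000000000000000000000000000000000000000000000000000000000000000000000000000000000000000000000000000000000000000000000000000000000000000000000000000000000000000000000000000000000000000000000000000000000000000000000000000000000000000000000000000000000020000000000000000000000000000000000000000000000000000000000000000000000000000000000000000000000000000000000000000000000000000000000000000000000000000000000000000000000000000000000000000000000000000000000000000000000000000000000000000000000000000000000000000000000000000000000000000000000000000000000000000000000000000000000000000000000000000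000000000000000000000000000000000000000000000000000000000000000000000000000000000000000000000000000000000000000000000000000000000000000000000000000000000000000000000000000000000000000000000000000000000000000000000000000000000000000000000000000000000000000000000000000000000000000000000000000000000000000000000000000000000000000000000000000000000000000000000000000000000000000000000000000000000000000000000000000000000000000000000000000000000000000000000000000000000000000000000000000000000000000000000000000000000000000000000000000000000000000000000000000000000000000000000000000000000000000000000000000000000000000000000000000000000000000000000000000000000000000000000000000000000000000000000000000000000000000000000000000000000000000000000000000000000000000000000000000000000000000000000000000000000000000000000000000000000000000000000000000000000000000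

theorem fix6 : ∀ r ∈ rs6, ∀ b ∈ ([52, 11589, 8003, 8001, 8005, 0] : List ℕ), wordApply (sgnProg pr) r.toWord (2 ^ b) = 2 ^ b := by decide +kernel

theorem M6_eq : grow pr (rs6.map FreeGroup.toWord) 1 (2 ^ 4781) = M6 := by decide +kernel

theorem M6_lt : M6 < 2 ^ 2 ^ 15 := by decide +kernel

theorem M6_cnt : sumRange M6.testBit 15 0 = 32 := by decide +kernel

theorem L6 : 32 * Nat.card (ptStab Phi ([4781, 52, 11589, 8003, 8001, 8005, 0] : List ℕ)) ≤ Nat.card (ptStab Phi ([52, 11589, 8003, 8001, 8005, 0] : List ℕ)) :=
  card_step (M6_eq ▸ sound_ptStab hR hv rs6 fix6 1 4781) M6_lt M6_cnt

/-- The words of level 7. -/
noncomputable def rs7 : List (FreeGroup Cfsg.Spor.Fi23.Gen) := [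
  W [(.b, true), (.d, true), (.c, true), (.e, true), (.h, true), (.d, true), (.h, true), (.e, true), (.c, true), (.d, true), (.i, true), (.f, true), (.e, true), (.d, true), (.c, true), (.g, true), (.f, true), (.h, true), (.d, true), (.e, true), (.d, true), (.h, true), (.f, true), (.g, true), (.c, true), (.d, true), (.e, true), (.f, true), (.b, true), (.c, true), (.b, true), (.i, true), (.d, true), (.c, true), (.e, true), (.h, true), (.d, true), (.h, true), (.e, true), (.c, true), (.d, true), (.i, true), (.f, true), (.e, true), (.d, true), (.c, true), (.g, true), (.f, true), (.h, true), (.d, true), (.e, true), (.d, true), (.h, true), (.f, true), (.g, true), (.c, true), (.d, true), (.e, true), (.f, true), (.b, true), (.d, true), (.c, true), (.e, true), (.h, true), (.d, true), (.h, true), (.e, true), (.c, true), (.d, true), (.b, true), (.f, true), (.e, true), (.d, true), (.c, true), (.g, true), (.f, true), (.h, true), (.d, true), (.e, true), (.d, true), (.h, true), (.f, true), (.g, true), (.c, true), (.d, true), (.e, true), (.f, true), (.i, true), (.d, true), (.c, true), (.e, true), (.h, true), (.d, true), (.h, true), (.e, true), (.c, true), (.d, true), (.i, true), (.b, true), (.c, true), (.b, true), (.f, true), (.e, true), (.d, true), (.c, true),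 (.g, true), (.f, true), (.h, true), (.d, true), (.e, true), (.d, true), (.h, true), (.f, true), (.g, true), (.c, true), (.d, true), (.e, true), (.f, true), (.i, true), (.d, true), (.c, true), (.e, true), (.h, true), (.d, true), (.h, true), (.e, true), (.c, true), (.d, true), (.b, true), (.d, true), (.c, true), (.e, true), (.h, true), (.d, true), (.h, true), (.e, true), (.c, true), (.d, true), (.b, true), (.d, true), (.c, true), (.e, true), (.h, true), (.d, true), (.h, true), (.e, true), (.c, true), (.d, true), (.i, true), (.f, true), (.e, true), (.d, true), (.c, true), (.g, true), (.f, true), (.h, true), (.d, true), (.e, true), (.d, true), (.h, true), (.f, true), (.g, true), (.c, true), (.d, true), (.e, true), (.f, true), (.b, true), (.c, true), (.b, true), (.i, true), (.d, true), (.c, true), (.e, true), (.h, true), (.d, true), (.h, true), (.e, true), (.c, true), (.d, true), (.i, true), (.f, true), (.e, true), (.d, true), (.c, true), (.g, true), (.f, true), (.h, true), (.d, true), (.e, true), (.d, true), (.h, true), (.f, true), (.g, true), (.c, true), (.d, true), (.e, true), (.f, true), (.a, true), (.c, true), (.b, true), (.d, true), (.c, true), (.e, true), (.h, true), (.d, true), (.h, true), (.e, true), (.c, true), (.d, true), (.b, true),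 (.c, true), (.a, true), (.f, true), (.e, true), (.d, true), (.c, true), (.g, true), (.f, true), (.h, true), (.d, true), (.e, true), (.d, true), (.h, true), (.f, true), (.g, true), (.c, true), (.d, true), (.e, true), (.f, true), (.i, true), (.d, true), (.c, true), (.e, true), (.h, true), (.d, true), (.h, true), (.e, true), (.c, true), (.d, true), (.i, true), (.b, true), (.c, true), (.b, true), (.f, true), (.e, true), (.d, true), (.c, true), (.g, true), (.f, true), (.h, true), (.d, true), (.e, true), (.d, true), (.h, true), (.f, true), (.g, true), (.c, true), (.d, true), (.e, true), (.f, true), (.i, true), (.d, true), (.c, true), (.e, true), (.h, true), (.d, true), (.h, true), (.e, true), (.c, true), (.d, true), (.b, true), (.d, true), (.c, true), (.e, true), (.h, true), (.d, true), (.h, true), (.e, true), (.c, true), (.d, true), (.b, true), (.d, true), (.c, true), (.e, true), (.h, true), (.d, true), (.h, true), (.e, true), (.c, true), (.d, true), (.i, true), (.f, true), (.e, true), (.d, true), (.c, true), (.g, true), (.f, true), (.h, true), (.d, true), (.e, true), (.d, true), (.h, true), (.f, true), (.g, true), (.c, true), (.d, true), (.e, true), (.f, true), (.b, true), (.c, true), (.b, true), (.i, true), (.d, true), (.c, true), (.e, true),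 (.h, true), (.d, true), (.h, true), (.e, true), (.c, true), (.d, true), (.i, true), (.f, true), (.e, true), (.d, true), (.c, true), (.g, true), (.f, true), (.h, true), (.d, true), (.e, true), (.d, true), (.h, true), (.f, true), (.g, true), (.c, true), (.d, true), (.e, true), (.f, true), (.b, true), (.d, true), (.c, true), (.e, true), (.h, true), (.d, true), (.h, true), (.e, true), (.c, true), (.d, true), (.b, true), (.f, true), (.e, true), (.d, true), (.c, true), (.g, true), (.f, true), (.h, true), (.d, true), (.e, true), (.d, true), (.h, true), (.f, true), (.g, true), (.c, true), (.d, true), (.e, true), (.f, true), (.i, true), (.d, true), (.c, true), (.e, true), (.h, true), (.d, true), (.h, true), (.e, true), (.c, true), (.d, true), (.i, true), (.b, true), (.c, true), (.b, true), (.f, true), (.e, true), (.d, true), (.c, true), (.g, true), (.f, true), (.h, true), (.d, true), (.e, true), (.d, true), (.h, true), (.f, true), (.g, true), (.c, true), (.d, true), (.e, true), (.f, true), (.i, true), (.d, true), (.c, true), (.e, true), (.h, true), (.d, true), (.h, true), (.e, true), (.c, true), (.d, true), (.b, true)],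
  W [(.b, true), (.d, true), (.c, true), (.e, true), (.h, true), (.d, true), (.h, true), (.e, true), (.c, true), (.d, true), (.i, true), (.f, true), (.e, true), (.d, true), (.c, true), (.g, true), (.f, true), (.h, true), (.d, true), (.e, true), (.d, true), (.h, true), (.f, true), (.g, true), (.c, true), (.d, true), (.e, true), (.f, true), (.b, true), (.c, true), (.b, true), (.i, true), (.d, true), (.c, true), (.e, true), (.h, true), (.d, true), (.h, true), (.e, true), (.c, true), (.d, true), (.i, true), (.f, true), (.e, true), (.d, true), (.c, true), (.g, true), (.f, true), (.h, true), (.d, true), (.e, true), (.d, true), (.h, true), (.f, true), (.g, true), (.c, true), (.d, true), (.e, true), (.f, true), (.b, true), (.d, true), (.c, true), (.e, true), (.h, true), (.d, true), (.h, true), (.e, true), (.c, true), (.d, true), (.b, true), (.f, true), (.e, true), (.d, true), (.c, true), (.g, true), (.f, true), (.h, true), (.d, true), (.e, true), (.d, true), (.h, true), (.f, true), (.g, true), (.c, true), (.d, true), (.e, true), (.f, true), (.i, true), (.d, true), (.c, true), (.e, true), (.h, true), (.d, true), (.h, true), (.e, true), (.c, true), (.d, true), (.i, true), (.b, true), (.c, true), (.b, true), (.f, true), (.e, true), (.d, true), (.c, true),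 (.g, true), (.f, true), (.h, true), (.d, true), (.e, true), (.d, true), (.h, true), (.f, true), (.g, true), (.c, true), (.d, true), (.e, true), (.f, true), (.i, true), (.d, true), (.c, true), (.e, true), (.h, true), (.d, true), (.h, true), (.e, true), (.c, true), (.d, true), (.a, true), (.c, true), (.b, true), (.d, true), (.c, true), (.e, true), (.h, true), (.d, true), (.h, true), (.e, true), (.c, true), (.d, true), (.b, true), (.c, true), (.a, true), (.d, true), (.c, true), (.e, true), (.h, true), (.d, true), (.h, true), (.e, true), (.c, true), (.d, true), (.i, true), (.f, true), (.e, true), (.d, true), (.c, true), (.g, true), (.f, true), (.h, true), (.d, true), (.e, true), (.d, true), (.h, true), (.f, true), (.g, true), (.c, true), (.d, true), (.e, true), (.f, true), (.b, true), (.c, true), (.b, true), (.i, true), (.d, true), (.c, true), (.e, true), (.h, true), (.d, true), (.h, true), (.e, true), (.c, true), (.d, true), (.i, true), (.f, true), (.e, true), (.d, true), (.c, true), (.g, true), (.f, true), (.h, true), (.d, true), (.e, true), (.d, true), (.h, true), (.f, true), (.g, true), (.c, true), (.d, true), (.e, true), (.f, true), (.a, true), (.c, true), (.b, true), (.d, true), (.c, true), (.e, true), (.h, true), (.d, true), (.h, true),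 (.e, true), (.c, true), (.d, true), (.b, true), (.c, true), (.a, true), (.f, true), (.e, true), (.d, true), (.c, true), (.g, true), (.f, true), (.h, true), (.d, true), (.e, true), (.d, true), (.h, true), (.f, true), (.g, true), (.c, true), (.d, true), (.e, true), (.f, true), (.i, true), (.d, true), (.c, true), (.e, true), (.h, true), (.d, true), (.h, true), (.e, true), (.c, true), (.d, true), (.i, true), (.b, true), (.c, true), (.b, true), (.f, true), (.e, true), (.d, true), (.c, true), (.g, true), (.f, true), (.h, true), (.d, true), (.e, true), (.d, true), (.h, true), (.f, true), (.g, true), (.c, true), (.d, true), (.e, true), (.f, true), (.i, true), (.d, true), (.c, true), (.e, true), (.h, true), (.d, true), (.h, true), (.e, true), (.c, true), (.d, true), (.a, true), (.c, true), (.b, true), (.d, true), (.c, true), (.e, true), (.h, true), (.d, true), (.h, true), (.e, true), (.c, true), (.d, true), (.b, true), (.c, true), (.a, true), (.d, true), (.c, true), (.e, true), (.h, true), (.d, true), (.h, true), (.e, true), (.c, true), (.d, true), (.i, true), (.f, true), (.e, true), (.d, true), (.c, true), (.g, true), (.f, true), (.h, true), (.d, true), (.e, true), (.d, true), (.h, true), (.f, true), (.g, true), (.c, true), (.d, true), (.e, true),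 (.f, true), (.b, true), (.c, true), (.b, true), (.i, true), (.d, true), (.c, true), (.e, true), (.h, true), (.d, true), (.h, true), (.e, true), (.c, true), (.d, true), (.i, true), (.f, true), (.e, true), (.d, true), (.c, true), (.g, true), (.f, true), (.h, true), (.d, true), (.e, true), (.d, true), (.h, true), (.f, true), (.g, true), (.c, true), (.d, true), (.e, true), (.f, true), (.b, true), (.d, true), (.c, true), (.e, true), (.h, true), (.d, true), (.h, true), (.e, true), (.c, true), (.d, true), (.b, true), (.f, true), (.e, true), (.d, true), (.c, true), (.g, true), (.f, true), (.h, true), (.d, true), (.e, true), (.d, true), (.h, true), (.f, true), (.g, true), (.c, true), (.d, true), (.e, true), (.f, true), (.i, true), (.d, true), (.c, true), (.e, true), (.h, true), (.d, true), (.h, true), (.e, true), (.c, true), (.d, true), (.i, true), (.b, true), (.c, true), (.b, true), (.f, true), (.e, true), (.d, true), (.c, true), (.g, true), (.f, true), (.h, true), (.d, true), (.e, true), (.d, true), (.h, true), (.f, true), (.g, true), (.c, true), (.d, true), (.e, true), (.f, true), (.i, true), (.d, true), (.c, true), (.e, true), (.h, true), (.d, true), (.h, true), (.e, true), (.c, true), (.d, true), (.b, true)],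
  W [(.b, true), (.d, true), (.c, true), (.e, true), (.h, true), (.d, true), (.h, true), (.e, true), (.c, true), (.d, true), (.i, true), (.f, true), (.e, true), (.d, true), (.c, true), (.g, true), (.f, true), (.h, true), (.d, true), (.e, true), (.d, true), (.h, true), (.f, true), (.g, true), (.c, true), (.d, true), (.e, true), (.f, true), (.b, true), (.c, true), (.b, true), (.i, true), (.d, true), (.c, true), (.e, true), (.h, true), (.d, true), (.h, true), (.e, true), (.c, true), (.d, true), (.i, true), (.f, true), (.e, true), (.d, true), (.c, true), (.g, true), (.f, true), (.h, true), (.d, true), (.e, true), (.d, true), (.h, true), (.f, true), (.g, true), (.c, true), (.d, true), (.e, true), (.f, true), (.d, true), (.c, true), (.e, true), (.h, true), (.d, true), (.h, true), (.e, true), (.c, true), (.d, true), (.i, true), (.f, true), (.e, true), (.d, true), (.c, true), (.g, true), (.f, true), (.h, true), (.d, true), (.e, true), (.d, true), (.h, true), (.f, true), (.g, true), (.c, true), (.d, true), (.e, true), (.f, true), (.b, true), (.c, true), (.b, true), (.i, true), (.d, true), (.c, true), (.e, true), (.h, true), (.d, true), (.h, true), (.e, true), (.c, true), (.d, true), (.i, true), (.f, true), (.e, true), (.d, true), (.c, true), (.g, true),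 (.f, true), (.h, true), (.d, true), (.e, true), (.d, true), (.h, true), (.f, true), (.g, true), (.c, true), (.d, true), (.e, true), (.f, true), (.d, true), (.c, true), (.e, true), (.h, true), (.d, true), (.h, true), (.e, true), (.c, true), (.d, true), (.i, true), (.f, true), (.e, true), (.d, true), (.c, true), (.g, true), (.f, true), (.h, true), (.d, true), (.e, true), (.d, true), (.h, true), (.f, true), (.g, true), (.c, true), (.d, true), (.e, true), (.f, true), (.b, true), (.c, true), (.b, true), (.i, true), (.d, true), (.c, true), (.e, true), (.h, true), (.d, true), (.h, true), (.e, true), (.c, true), (.d, true), (.i, true), (.f, true), (.e, true), (.d, true), (.c, true), (.g, true), (.f, true), (.h, true), (.d, true), (.e, true), (.d, true), (.h, true), (.f, true), (.g, true), (.c, true), (.d, true), (.e, true), (.f, true), (.d, true), (.c, true), (.e, true), (.h, true), (.d, true), (.h, true), (.e, true), (.c, true), (.d, true), (.i, true), (.f, true), (.e, true), (.d, true), (.c, true), (.g, true), (.f, true), (.h, true), (.d, true), (.e, true), (.d, true), (.h, true), (.f, true), (.g, true), (.c, true), (.d, true), (.e, true), (.f, true), (.b, true), (.c, true), (.b, true), (.i, true), (.d, true), (.c, true), (.e, true), (.h, true),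 (.d, true), (.h, true), (.e, true), (.c, true), (.d, true), (.i, true), (.f, true), (.e, true), (.d, true), (.c, true), (.g, true), (.f, true), (.h, true), (.d, true), (.e, true), (.d, true), (.h, true), (.f, true), (.g, true), (.c, true), (.d, true), (.e, true), (.f, true), (.b, true), (.d, true), (.c, true), (.e, true), (.h, true), (.d, true), (.h, true), (.e, true), (.c, true), (.d, true), (.b, true), (.f, true), (.e, true), (.d, true), (.c, true), (.g, true), (.f, true), (.h, true), (.d, true), (.e, true), (.d, true), (.h, true), (.f, true), (.g, true), (.c, true), (.d, true), (.e, true), (.f, true), (.i, true), (.d, true), (.c, true), (.e, true), (.h, true), (.d, true), (.h, true), (.e, true), (.c, true), (.d, true), (.i, true), (.b, true), (.c, true), (.b, true), (.f, true), (.e, true), (.d, true), (.c, true), (.g, true), (.f, true), (.h, true), (.d, true), (.e, true), (.d, true), (.h, true), (.f, true), (.g, true), (.c, true), (.d, true), (.e, true), (.f, true), (.i, true), (.d, true), (.c, true), (.e, true), (.h, true), (.d, true), (.h, true), (.e, true), (.c, true), (.d, true), (.f, true), (.e, true), (.d, true), (.c, true), (.g, true), (.f, true), (.h, true), (.d, true), (.e, true), (.d, true), (.h, true), (.f, true), (.g, true),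 (.c, true), (.d, true), (.e, true), (.f, true), (.i, true), (.d, true), (.c, true), (.e, true), (.h, true), (.d, true), (.h, true), (.e, true), (.c, true), (.d, true), (.i, true), (.b, true), (.c, true), (.b, true), (.f, true), (.e, true), (.d, true), (.c, true), (.g, true), (.f, true), (.h, true), (.d, true), (.e, true), (.d, true), (.h, true), (.f, true), (.g, true), (.c, true), (.d, true), (.e, true), (.f, true), (.i, true), (.d, true), (.c, true), (.e, true), (.h, true), (.d, true), (.h, true), (.e, true), (.c, true), (.d, true), (.f, true), (.e, true), (.d, true), (.c, true), (.g, true), (.f, true), (.h, true), (.d, true), (.e, true), (.d, true), (.h, true), (.f, true), (.g, true), (.c, true), (.d, true), (.e, true), (.f, true), (.i, true), (.d, true), (.c, true), (.e, true), (.h, true), (.d, true), (.h, true), (.e, true), (.c, true), (.d, true), (.i, true), (.b, true), (.c, true), (.b, true), (.f, true), (.e, true), (.d, true), (.c, true), (.g, true), (.f, true), (.h, true), (.d, true), (.e, true), (.d, true), (.h, true), (.f, true), (.g, true), (.c, true), (.d, true), (.e, true), (.f, true), (.i, true), (.d, true), (.c, true), (.e, true), (.h, true), (.d, true), (.h, true), (.e, true), (.c, true), (.d, true), (.f, true), (.e, true),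 (.d, true), (.c, true), (.g, true), (.f, true), (.h, true), (.d, true), (.e, true), (.d, true), (.h, true), (.f, true), (.g, true), (.c, true), (.d, true), (.e, true), (.f, true), (.i, true), (.d, true), (.c, true), (.e, true), (.h, true), (.d, true), (.h, true), (.e, true), (.c, true), (.d, true), (.i, true), (.b, true), (.c, true), (.b, true), (.f, true), (.e, true), (.d, true), (.c, true), (.g, true), (.f, true), (.h, true), (.d, true), (.e, true), (.d, true), (.h, true), (.f, true), (.g, true), (.c, true), (.d, true), (.e, true), (.f, true), (.i, true), (.d, true), (.c, true), (.e, true), (.h, true), (.d, true), (.h, true), (.e, true), (.c, true), (.d, true), (.b, true)],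
  W [(.b, true), (.d, true), (.c, true), (.e, true), (.h, true), (.d, true), (.h, true), (.e, true), (.c, true), (.d, true), (.i, true), (.f, true), (.e, true), (.d, true), (.c, true), (.g, true), (.f, true), (.h, true), (.d, true), (.e, true), (.d, true), (.h, true), (.f, true), (.g, true), (.c, true), (.d, true), (.e, true), (.f, true), (.b, true), (.c, true), (.b, true), (.i, true), (.d, true), (.c, true), (.e, true), (.h, true), (.d, true), (.h, true), (.e, true), (.c, true), (.d, true), (.i, true), (.f, true), (.e, true), (.d, true), (.c, true), (.g, true), (.f, true), (.h, true), (.d, true), (.e, true), (.d, true), (.h, true), (.f, true), (.g, true), (.c, true), (.d, true), (.e, true), (.f, true), (.b, true), (.d, true), (.c, true), (.e, true), (.h, true), (.d, true), (.h, true), (.e, true), (.c, true), (.d, true), (.b, true), (.f, true), (.e, true), (.d, true), (.c, true), (.g, true), (.f, true), (.h, true), (.d, true), (.e, true), (.d, true), (.h, true), (.f, true), (.g, true), (.c, true), (.d, true), (.e, true), (.f, true), (.i, true), (.d, true), (.c, true), (.e, true), (.h, true), (.d, true), (.h, true), (.e, true), (.c, true), (.d, true), (.i, true), (.b, true), (.c, true), (.b, true), (.f, true), (.e, true), (.d, true), (.c, true),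 (.g, true), (.f, true), (.h, true), (.d, true), (.e, true), (.d, true), (.h, true), (.f, true), (.g, true), (.c, true), (.d, true), (.e, true), (.f, true), (.i, true), (.d, true), (.c, true), (.e, true), (.h, true), (.d, true), (.h, true), (.e, true), (.c, true), (.d, true), (.b, true), (.d, true), (.c, true), (.e, true), (.h, true), (.d, true), (.h, true), (.e, true), (.c, true), (.d, true), (.b, true), (.a, true), (.c, true), (.b, true), (.d, true), (.c, true), (.e, true), (.h, true), (.d, true), (.h, true), (.e, true), (.c, true), (.d, true), (.b, true), (.c, true), (.a, true), (.f, true), (.e, true), (.d, true), (.c, true), (.g, true), (.f, true), (.h, true), (.d, true), (.e, true), (.d, true), (.h, true), (.f, true), (.g, true), (.c, true), (.d, true), (.e, true), (.f, true), (.i, true), (.d, true), (.c, true), (.e, true), (.h, true), (.d, true), (.h, true), (.e, true), (.c, true), (.d, true), (.i, true), (.b, true), (.c, true), (.b, true), (.f, true), (.e, true), (.d, true), (.c, true), (.g, true), (.f, true), (.h, true), (.d, true), (.e, true), (.d, true), (.h, true), (.f, true), (.g, true), (.c, true), (.d, true), (.e, true), (.f, true), (.i, true), (.d, true), (.c, true), (.e, true), (.h, true), (.d, true), (.h, true), (.e, true),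 (.c, true), (.d, true), (.f, true), (.e, true), (.d, true), (.c, true), (.g, true), (.f, true), (.h, true), (.d, true), (.e, true), (.d, true), (.h, true), (.f, true), (.g, true), (.c, true), (.d, true), (.e, true), (.f, true), (.i, true), (.d, true), (.c, true), (.e, true), (.h, true), (.d, true), (.h, true), (.e, true), (.c, true), (.d, true), (.i, true), (.b, true), (.c, true), (.b, true), (.f, true), (.e, true), (.d, true), (.c, true), (.g, true), (.f, true), (.h, true), (.d, true), (.e, true), (.d, true), (.h, true), (.f, true), (.g, true), (.c, true), (.d, true), (.e, true), (.f, true), (.i, true), (.d, true), (.c, true), (.e, true), (.h, true), (.d, true), (.h, true), (.e, true), (.c, true), (.d, true), (.f, true), (.e, true), (.d, true), (.c, true), (.g, true), (.f, true), (.h, true), (.d, true), (.e, true), (.d, true), (.h, true), (.f, true), (.g, true), (.c, true), (.d, true), (.e, true), (.f, true), (.i, true), (.d, true), (.c, true), (.e, true), (.h, true), (.d, true), (.h, true), (.e, true), (.c, true), (.d, true), (.i, true), (.b, true), (.c, true), (.b, true), (.f, true), (.e, true), (.d, true), (.c, true), (.g, true), (.f, true), (.h, true), (.d, true), (.e, true), (.d, true), (.h, true), (.f, true), (.g, true), (.c, true),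 (.d, true), (.e, true), (.f, true), (.i, true), (.d, true), (.c, true), (.e, true), (.h, true), (.d, true), (.h, true), (.e, true), (.c, true), (.d, true), (.a, true), (.c, true), (.b, true), (.d, true), (.c, true), (.e, true), (.h, true), (.d, true), (.h, true), (.e, true), (.c, true), (.d, true), (.b, true), (.c, true), (.a, true), (.b, true), (.d, true), (.c, true), (.e, true), (.h, true), (.d, true), (.h, true), (.e, true), (.c, true), (.d, true), (.b, true), (.f, true), (.e, true), (.d, true), (.c, true), (.g, true), (.f, true), (.h, true), (.d, true), (.e, true), (.d, true), (.h, true), (.f, true), (.g, true), (.c, true), (.d, true), (.e, true), (.f, true), (.i, true), (.d, true), (.c, true), (.e, true), (.h, true), (.d, true), (.h, true), (.e, true), (.c, true), (.d, true), (.i, true), (.b, true), (.c, true), (.b, true), (.f, true), (.e, true), (.d, true), (.c, true), (.g, true), (.f, true), (.h, true), (.d, true), (.e, true), (.d, true), (.h, true), (.f, true), (.g, true), (.c, true), (.d, true), (.e, true), (.f, true), (.i, true), (.d, true), (.c, true), (.e, true), (.h, true), (.d, true), (.h, true), (.e, true), (.c, true), (.d, true), (.f, true), (.e, true), (.d, true), (.c, true), (.g, true), (.f, true), (.h, true), (.d, true),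 (.e, true), (.d, true), (.h, true), (.f, true), (.g, true), (.c, true), (.d, true), (.e, true), (.f, true), (.i, true), (.d, true), (.c, true), (.e, true), (.h, true), (.d, true), (.h, true), (.e, true), (.c, true), (.d, true), (.i, true), (.b, true), (.c, true), (.b, true), (.f, true), (.e, true), (.d, true), (.c, true), (.g, true), (.f, true), (.h, true), (.d, true), (.e, true), (.d, true), (.h, true), (.f, true), (.g, true), (.c, true), (.d, true), (.e, true), (.f, true), (.i, true), (.d, true), (.c, true), (.e, true), (.h, true), (.d, true), (.h, true), (.e, true), (.c, true), (.d, true), (.b, true), (.d, true), (.c, true), (.e, true), (.h, true), (.d, true), (.h, true), (.e, true), (.c, true), (.d, true), (.b, true), (.f, true), (.e, true), (.d, true), (.c, true), (.g, true), (.f, true), (.h, true), (.d, true), (.e, true), (.d, true), (.h, true), (.f, true), (.g, true), (.c, true), (.d, true), (.e, true), (.f, true), (.i, true), (.d, true), (.c, true), (.e, true), (.h, true), (.d, true), (.h, true), (.e, true), (.c, true), (.d, true), (.i, true), (.b, true), (.c, true), (.b, true), (.f, true), (.e, true), (.d, true), (.c, true), (.g, true), (.f, true), (.h, true), (.d, true), (.e, true), (.d, true), (.h, true), (.f, true), (.g, true),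 (.c, true), (.d, true), (.e, true), (.f, true), (.i, true), (.d, true), (.c, true), (.e, true), (.h, true), (.d, true), (.h, true), (.e, true), (.c, true), (.d, true), (.b, true)],
  W [(.b, true), (.d, true), (.c, true), (.e, true), (.h, true), (.d, true), (.h, true), (.e, true), (.c, true), (.d, true), (.i, true), (.f, true), (.e, true), (.d, true), (.c, true), (.g, true), (.f, true), (.h, true), (.d, true), (.e, true), (.d, true), (.h, true), (.f, true), (.g, true), (.c, true), (.d, true), (.e, true), (.f, true), (.b, true), (.c, true), (.b, true), (.i, true), (.d, true), (.c, true), (.e, true), (.h, true), (.d, true), (.h, true), (.e, true), (.c, true), (.d, true), (.i, true), (.f, true), (.e, true), (.d, true), (.c, true), (.g, true), (.f, true), (.h, true), (.d, true), (.e, true), (.d, true), (.h, true), (.f, true), (.g, true), (.c, true), (.d, true), (.e, true), (.f, true), (.a, true), (.c, true), (.b, true), (.d, true), (.c, true), (.e, true), (.h, true), (.d, true), (.h, true), (.e, true), (.c, true), (.d, true), (.b, true), (.c, true), (.a, true), (.d, true), (.c, true), (.e, true), (.h, true), (.d, true), (.h, true), (.e, true), (.c, true), (.d, true), (.i, true), (.f, true), (.e, true), (.d, true), (.c, true), (.g, true), (.f, true),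 (.h, true), (.d, true), (.e, true), (.d, true), (.h, true), (.f, true), (.g, true), (.c, true), (.d, true), (.e, true), (.f, true), (.b, true), (.c, true), (.b, true), (.i, true), (.d, true), (.c, true), (.e, true), (.h, true), (.d, true), (.h, true), (.e, true), (.c, true), (.d, true), (.i, true), (.f, true), (.e, true), (.d, true), (.c, true), (.g, true), (.f, true), (.h, true), (.d, true), (.e, true), (.d, true), (.h, true), (.f, true), (.g, true), (.c, true), (.d, true), (.e, true), (.f, true), (.d, true), (.c, true), (.e, true), (.h, true), (.d, true), (.h, true), (.e, true), (.c, true), (.d, true), (.i, true), (.f, true), (.e, true), (.d, true), (.c, true), (.g, true), (.f, true), (.h, true), (.d, true), (.e, true), (.d, true), (.h, true), (.f, true), (.g, true), (.c, true), (.d, true), (.e, true), (.f, true), (.b, true), (.c, true), (.b, true), (.i, true), (.d, true), (.c, true), (.e, true), (.h, true), (.d, true), (.h, true), (.e, true), (.c, true), (.d, true), (.i, true), (.f, true), (.e, true), (.d, true), (.c, true), (.g, true), (.f, true), (.h, true), (.d, true), (.e, true), (.d, true), (.h, true), (.f, true), (.g, true), (.c, true), (.d, true), (.e, true), (.f, true), (.d, true), (.c, true), (.e, true), (.h, true), (.d, true),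 (.h, true), (.e, true), (.c, true), (.d, true), (.i, true), (.f, true), (.e, true), (.d, true), (.c, true), (.g, true), (.f, true), (.h, true), (.d, true), (.e, true), (.d, true), (.h, true), (.f, true), (.g, true), (.c, true), (.d, true), (.e, true), (.f, true), (.b, true), (.c, true), (.b, true), (.i, true), (.d, true), (.c, true), (.e, true), (.h, true), (.d, true), (.h, true), (.e, true), (.c, true), (.d, true), (.i, true), (.f, true), (.e, true), (.d, true), (.c, true), (.g, true), (.f, true), (.h, true), (.d, true), (.e, true), (.d, true), (.h, true), (.f, true), (.g, true), (.c, true), (.d, true), (.e, true), (.f, true), (.a, true), (.c, true), (.b, true), (.d, true), (.c, true), (.e, true), (.h, true), (.d, true), (.h, true), (.e, true), (.c, true), (.d, true), (.b, true), (.c, true), (.a, true), (.b, true), (.d, true), (.c, true), (.e, true), (.h, true), (.d, true), (.h, true), (.e, true), (.c, true), (.d, true), (.b, true), (.a, true), (.c, true), (.b, true), (.d, true), (.c, true), (.e, true), (.h, true), (.d, true), (.h, true), (.e, true), (.c, true), (.d, true), (.b, true), (.c, true), (.a, true), (.d, true), (.c, true), (.e, true), (.h, true), (.d, true), (.h, true), (.e, true), (.c, true), (.d, true), (.i, true), (.f, true),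 (.e, true), (.d, true), (.c, true), (.g, true), (.f, true), (.h, true), (.d, true), (.e, true), (.d, true), (.h, true), (.f, true), (.g, true), (.c, true), (.d, true), (.e, true), (.f, true), (.b, true), (.c, true), (.b, true), (.i, true), (.d, true), (.c, true), (.e, true), (.h, true), (.d, true), (.h, true), (.e, true), (.c, true), (.d, true), (.i, true), (.f, true), (.e, true), (.d, true), (.c, true), (.g, true), (.f, true), (.h, true), (.d, true), (.e, true), (.d, true), (.h, true), (.f, true), (.g, true), (.c, true), (.d, true), (.e, true), (.f, true), (.b, true), (.d, true), (.c, true), (.e, true), (.h, true), (.d, true), (.h, true), (.e, true), (.c, true), (.d, true), (.b, true), (.f, true), (.e, true), (.d, true), (.c, true), (.g, true), (.f, true), (.h, true), (.d, true), (.e, true), (.d, true), (.h, true), (.f, true), (.g, true), (.c, true), (.d, true), (.e, true), (.f, true), (.i, true), (.d, true), (.c, true), (.e, true), (.h, true), (.d, true), (.h, true), (.e, true), (.c, true), (.d, true), (.i, true), (.b, true), (.c, true), (.b, true), (.f, true), (.e, true), (.d, true), (.c, true), (.g, true), (.f, true), (.h, true), (.d, true), (.e, true), (.d, true), (.h, true), (.f, true), (.g, true), (.c, true), (.d, true), (.e, true),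 (.f, true), (.i, true), (.d, true), (.c, true), (.e, true), (.h, true), (.d, true), (.h, true), (.e, true), (.c, true), (.d, true), (.a, true), (.c, true), (.b, true), (.d, true), (.c, true), (.e, true), (.h, true), (.d, true), (.h, true), (.e, true), (.c, true), (.d, true), (.b, true), (.c, true), (.a, true), (.b, true), (.d, true), (.c, true), (.e, true), (.h, true), (.d, true), (.h, true), (.e, true), (.c, true), (.d, true), (.b, true), (.d, true), (.c, true), (.e, true), (.h, true), (.d, true), (.h, true), (.e, true), (.c, true), (.d, true), (.i, true), (.f, true), (.e, true), (.d, true), (.c, true), (.g, true), (.f, true), (.h, true), (.d, true), (.e, true), (.d, true), (.h, true), (.f, true), (.g, true), (.c, true), (.d, true), (.e, true), (.f, true), (.b, true), (.c, true), (.b, true), (.i, true), (.d, true), (.c, true), (.e, true), (.h, true), (.d, true), (.h, true), (.e, true), (.c, true), (.d, true), (.i, true), (.f, true), (.e, true), (.d, true), (.c, true), (.g, true), (.f, true), (.h, true), (.d, true), (.e, true), (.d, true), (.h, true), (.f, true), (.g, true), (.c, true), (.d, true), (.e, true), (.f, true), (.b, true), (.d, true), (.c, true), (.e, true), (.h, true), (.d, true), (.h, true), (.e, true), (.c, true), (.d, true),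 (.b, true), (.f, true), (.e, true), (.d, true), (.c, true), (.g, true), (.f, true), (.h, true), (.d, true), (.e, true), (.d, true), (.h, true), (.f, true), (.g, true), (.c, true), (.d, true), (.e, true), (.f, true), (.i, true), (.d, true), (.c, true), (.e, true), (.h, true), (.d, true), (.h, true), (.e, true), (.c, true), (.d, true), (.i, true), (.b, true), (.c, true), (.b, true), (.f, true), (.e, true), (.d, true), (.c, true), (.g, true), (.f, true), (.h, true), (.d, true), (.e, true), (.d, true), (.h, true), (.f, true), (.g, true), (.c, true), (.d, true), (.e, true), (.f, true), (.i, true), (.d, true), (.c, true), (.e, true), (.h, true), (.d, true), (.h, true), (.e, true), (.c, true), (.d, true), (.f, true), (.e, true), (.d, true), (.c, true), (.g, true), (.f, true), (.h, true), (.d, true), (.e, true), (.d, true), (.h, true), (.f, true), (.g, true), (.c, true), (.d, true), (.e, true), (.f, true), (.i, true), (.d, true), (.c, true), (.e, true), (.h, true), (.d, true), (.h, true), (.e, true), (.c, true), (.d, true), (.i, true), (.b, true), (.c, true), (.b, true), (.f, true), (.e, true), (.d, true), (.c, true), (.g, true), (.f, true), (.h, true), (.d, true), (.e, true), (.d, true), (.h, true), (.f, true), (.g, true), (.c, true), (.d, true),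 (.e, true), (.f, true), (.i, true), (.d, true), (.c, true), (.e, true), (.h, true), (.d, true), (.h, true), (.e, true), (.c, true), (.d, true), (.b, true)],
  W [(.b, true), (.a, true), (.c, true), (.b, true), (.d, true), (.c, true), (.e, true), (.h, true), (.d, true), (.h, true), (.e, true), (.c, true), (.d, true), (.b, true), (.c, true), (.a, true), (.d, true), (.c, true), (.e, true), (.h, true), (.d, true), (.h, true), (.e, true), (.c, true), (.d, true), (.i, true), (.f, true), (.e, true), (.d, true), (.c, true), (.g, true), (.f, true), (.h, true), (.d, true), (.e, true), (.d, true), (.h, true), (.f, true), (.g, true), (.c, true), (.d, true), (.e, true), (.f, true), (.b, true), (.c, true), (.b, true), (.i, true), (.d, true), (.c, true), (.e, true), (.h, true), (.d, true), (.h, true), (.e, true), (.c, true), (.d, true), (.i, true), (.f, true), (.e, true), (.d, true), (.c, true), (.g, true), (.f, true), (.h, true), (.d, true), (.e, true), (.d, true), (.h, true), (.f, true), (.g, true), (.c, true), (.d, true), (.e, true), (.f, true), (.b, true), (.d, true), (.c, true), (.e, true), (.h, true), (.d, true), (.h, true), (.e, true), (.c, true), (.d, true), (.b, true), (.f, true), (.e, true), (.d, true), (.c, true), (.g, true), (.f, true), (.h, true),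 (.d, true), (.e, true), (.d, true), (.h, true), (.f, true), (.g, true), (.c, true), (.d, true), (.e, true), (.f, true), (.i, true), (.d, true), (.c, true), (.e, true), (.h, true), (.d, true), (.h, true), (.e, true), (.c, true), (.d, true), (.i, true), (.b, true), (.c, true), (.b, true), (.f, true), (.e, true), (.d, true), (.c, true), (.g, true), (.f, true), (.h, true), (.d, true), (.e, true), (.d, true), (.h, true), (.f, true), (.g, true), (.c, true), (.d, true), (.e, true), (.f, true), (.i, true), (.d, true), (.c, true), (.e, true), (.h, true), (.d, true), (.h, true), (.e, true), (.c, true), (.d, true), (.b, true), (.d, true), (.c, true), (.e, true), (.h, true), (.d, true), (.h, true), (.e, true), (.c, true), (.d, true), (.b, true), (.a, true), (.c, true), (.b, true), (.d, true), (.c, true), (.e, true), (.h, true), (.d, true), (.h, true), (.e, true), (.c, true), (.d, true), (.b, true), (.c, true), (.a, true), (.d, true), (.c, true), (.e, true), (.h, true), (.d, true), (.h, true), (.e, true), (.c, true), (.d, true), (.i, true), (.f, true), (.e, true), (.d, true), (.c, true), (.g, true), (.f, true), (.h, true), (.d, true), (.e, true), (.d, true), (.h, true), (.f, true), (.g, true), (.c, true), (.d, true), (.e, true), (.f, true), (.b, true),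 (.c, true), (.b, true), (.i, true), (.d, true), (.c, true), (.e, true), (.h, true), (.d, true), (.h, true), (.e, true), (.c, true), (.d, true), (.i, true), (.f, true), (.e, true), (.d, true), (.c, true), (.g, true), (.f, true), (.h, true), (.d, true), (.e, true), (.d, true), (.h, true), (.f, true), (.g, true), (.c, true), (.d, true), (.e, true), (.f, true), (.b, true), (.d, true), (.c, true), (.e, true), (.h, true), (.d, true), (.h, true), (.e, true), (.c, true), (.d, true), (.b, true), (.d, true), (.c, true), (.e, true), (.h, true), (.d, true), (.h, true), (.e, true), (.c, true), (.d, true), (.i, true), (.f, true), (.e, true), (.d, true), (.c, true), (.g, true), (.f, true), (.h, true), (.d, true), (.e, true), (.d, true), (.h, true), (.f, true), (.g, true), (.c, true), (.d, true), (.e, true), (.f, true), (.b, true), (.c, true), (.b, true), (.i, true), (.d, true), (.c, true), (.e, true), (.h, true), (.d, true), (.h, true), (.e, true), (.c, true), (.d, true), (.i, true), (.f, true), (.e, true), (.d, true), (.c, true), (.g, true), (.f, true), (.h, true), (.d, true), (.e, true), (.d, true), (.h, true), (.f, true), (.g, true), (.c, true), (.d, true), (.e, true), (.f, true), (.b, true), (.d, true), (.c, true), (.e, true), (.h, true), (.d, true),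 (.h, true), (.e, true), (.c, true), (.d, true), (.b, true), (.f, true), (.e, true), (.d, true), (.c, true), (.g, true), (.f, true), (.h, true), (.d, true), (.e, true), (.d, true), (.h, true), (.f, true), (.g, true), (.c, true), (.d, true), (.e, true), (.f, true), (.i, true), (.d, true), (.c, true), (.e, true), (.h, true), (.d, true), (.h, true), (.e, true), (.c, true), (.d, true), (.i, true), (.b, true), (.c, true), (.b, true), (.f, true), (.e, true), (.d, true), (.c, true), (.g, true), (.f, true), (.h, true), (.d, true), (.e, true), (.d, true), (.h, true), (.f, true), (.g, true), (.c, true), (.d, true), (.e, true), (.f, true), (.i, true), (.d, true), (.c, true), (.e, true), (.h, true), (.d, true), (.h, true), (.e, true), (.c, true), (.d, true), (.b, true), (.d, true), (.c, true), (.e, true), (.h, true), (.d, true), (.h, true), (.e, true), (.c, true), (.d, true), (.b, true), (.f, true), (.e, true), (.d, true), (.c, true), (.g, true), (.f, true), (.h, true), (.d, true), (.e, true), (.d, true), (.h, true), (.f, true), (.g, true), (.c, true), (.d, true), (.e, true), (.f, true), (.i, true), (.d, true), (.c, true), (.e, true), (.h, true), (.d, true), (.h, true), (.e, true), (.c, true), (.d, true), (.i, true), (.b, true), (.c, true), (.b, true),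 (.f, true), (.e, true), (.d, true), (.c, true), (.g, true), (.f, true), (.h, true), (.d, true), (.e, true), (.d, true), (.h, true), (.f, true), (.g, true), (.c, true), (.d, true), (.e, true), (.f, true), (.i, true), (.d, true), (.c, true), (.e, true), (.h, true), (.d, true), (.h, true), (.e, true), (.c, true), (.d, true), (.a, true), (.c, true), (.b, true), (.d, true), (.c, true), (.e, true), (.h, true), (.d, true), (.h, true), (.e, true), (.c, true), (.d, true), (.b, true), (.c, true), (.a, true), (.b, true), (.d, true), (.c, true), (.e, true), (.h, true), (.d, true), (.h, true), (.e, true), (.c, true), (.d, true), (.b, true), (.f, true), (.e, true), (.d, true), (.c, true), (.g, true), (.f, true), (.h, true), (.d, true), (.e, true), (.d, true), (.h, true), (.f, true), (.g, true), (.c, true), (.d, true), (.e, true), (.f, true), (.i, true), (.d, true), (.c, true), (.e, true), (.h, true), (.d, true), (.h, true), (.e, true), (.c, true), (.d, true), (.i, true), (.b, true), (.c, true), (.b, true), (.f, true), (.e, true), (.d, true), (.c, true), (.g, true), (.f, true), (.h, true), (.d, true), (.e, true), (.d, true), (.h, true), (.f, true), (.g, true), (.c, true), (.d, true), (.e, true), (.f, true), (.i, true), (.d, true), (.c, true), (.e, true),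 (.h, true), (.d, true), (.h, true), (.e, true), (.c, true), (.d, true), (.f, true), (.e, true), (.d, true), (.c, true), (.g, true), (.f, true), (.h, true), (.d, true), (.e, true), (.d, true), (.h, true), (.f, true), (.g, true), (.c, true), (.d, true), (.e, true), (.f, true), (.i, true), (.d, true), (.c, true), (.e, true), (.h, true), (.d, true), (.h, true), (.e, true), (.c, true), (.d, true), (.i, true), (.b, true), (.c, true), (.b, true), (.f, true), (.e, true), (.d, true), (.c, true), (.g, true), (.f, true), (.h, true), (.d, true), (.e, true), (.d, true), (.h, true), (.f, true), (.g, true), (.c, true), (.d, true), (.e, true), (.f, true), (.i, true), (.d, true), (.c, true), (.e, true), (.h, true), (.d, true), (.h, true), (.e, true), (.c, true), (.d, true), (.a, true), (.c, true), (.b, true), (.d, true), (.c, true), (.e, true), (.h, true), (.d, true), (.h, true), (.e, true), (.c, true), (.d, true), (.b, true), (.c, true), (.a, true), (.d, true), (.c, true), (.e, true), (.h, true), (.d, true), (.h, true), (.e, true), (.c, true), (.d, true), (.i, true), (.f, true), (.e, true), (.d, true), (.c, true), (.g, true), (.f, true), (.h, true), (.d, true), (.e, true), (.d, true), (.h, true), (.f, true), (.g, true), (.c, true), (.d, true), (.e, true),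 (.f, true), (.b, true), (.c, true), (.b, true), (.i, true), (.d, true), (.c, true), (.e, true), (.h, true), (.d, true), (.h, true), (.e, true), (.c, true), (.d, true), (.i, true), (.f, true), (.e, true), (.d, true), (.c, true), (.g, true), (.f, true), (.h, true), (.d, true), (.e, true), (.d, true), (.h, true), (.f, true), (.g, true), (.c, true), (.d, true), (.e, true), (.f, true), (.b, true), (.d, true), (.c, true), (.e, true), (.h, true), (.d, true), (.h, true), (.e, true), (.c, true), (.d, true), (.b, true), (.f, true), (.e, true), (.d, true), (.c, true), (.g, true), (.f, true), (.h, true), (.d, true), (.e, true), (.d, true), (.h, true), (.f, true), (.g, true), (.c, true), (.d, true), (.e, true), (.f, true), (.i, true), (.d, true), (.c, true), (.e, true), (.h, true), (.d, true), (.h, true), (.e, true), (.c, true), (.d, true), (.i, true), (.b, true), (.c, true), (.b, true), (.f, true), (.e, true), (.d, true), (.c, true), (.g, true), (.f, true), (.h, true), (.d, true), (.e, true), (.d, true), (.h, true), (.f, true), (.g, true), (.c, true), (.d, true), (.e, true), (.f, true), (.i, true), (.d, true), (.c, true), (.e, true), (.h, true), (.d, true), (.h, true), (.e, true), (.c, true), (.d, true), (.a, true), (.c, true), (.b, true), (.d, true),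 (.c, true), (.e, true), (.h, true), (.d, true), (.h, true), (.e, true), (.c, true), (.d, true), (.b, true), (.c, true), (.a, true), (.b, true), (.d, true), (.c, true), (.e, true), (.h, true), (.d, true), (.h, true), (.e, true), (.c, true), (.d, true), (.b, true), (.f, true), (.e, true), (.d, true), (.c, true), (.g, true), (.f, true), (.h, true), (.d, true), (.e, true), (.d, true), (.h, true), (.f, true), (.g, true), (.c, true), (.d, true), (.e, true), (.f, true), (.i, true), (.d, true), (.c, true), (.e, true), (.h, true), (.d, true), (.h, true), (.e, true), (.c, true), (.d, true), (.i, true), (.b, true), (.c, true), (.b, true), (.f, true), (.e, true), (.d, true), (.c, true), (.g, true), (.f, true), (.h, true), (.d, true), (.e, true), (.d, true), (.h, true), (.f, true), (.g, true), (.c, true), (.d, true), (.e, true), (.f, true), (.i, true), (.d, true), (.c, true), (.e, true), (.h, true), (.d, true), (.h, true), (.e, true), (.c, true), (.d, true), (.b, true)]]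

/-- The mask of level 7. -/
def M7 : ℕ := nat_lit 0x100000000000000000000000000000000000000000000000000000000000000000000000000000000000000008000000000000000000000000000000000000000000000000000000000000010000000000000000000000000000000000000000000000000000000000000000000000000000000000000000000000000000000000000000000000000000000000000000000000000000000000000000000000000000000000000000000000000000000000000000000000000000000000000000000000000000000000000000000000000000000000000000000000000000000000000000000000000000000000000000000000000000000000000000000000000000000000000000000000000100000000000000000000000000000000000000000000000000000000000000000000000000000000000000000000000000000000000000000000000000000000000000000000000000000000000000000000000000000000000000000000000000000000000000000000000000000000000000000000000000000000000000000000000000000000000000000000000000000000000000000000000000000000000000000000000000000000000000000000000000000000000000000000000000000000000000000000000000000000000000000000000000000000000000000000000000000000000000000000000000000000000000000000000000000000000000000000000000000000000000000000000000000000000000000000000000000000000000000000000000000000000000000000000000000000000000000000000000000000000000000000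000000000000000000000000000000000000000000000000000000000000000000000000000000000000000000000000000000000000000000000000000000000000000000000000000000000000000000000000000000000000000000000000000000000000000000000000000000000000000000000000000000000000000000000000000000000000000000000000000000000000000000000000000000000000000000000000000000000000000000000000000000000000000000000000000000000000000000000000000000000000000000000000000000000000000000000000000000000000000000000000000000000000000000000000000000000000000000000000000000000000000000000000000000000000000000000000000000000000000000000000000000000000000000000000000000000000000000000000000000000000000000000000000000000000000000000000000000000000000000000000000000000000000000000000000000000000000000000000000000000000000000000000000000000000000000000000000000000000000000000000000000000000000000000000000000000000000000000000000000000000000000000000000000000000000000000000000000000000000000000000000000000000000000000000000000000000000000000000000000000000000000000000000000000000000000000000000000000000000000000000000000000000000000000000000000000000000000000000000000000000000000000000000000000000000000000000000000000000000000000000000000000000000000000000000000000000000000000000000000000000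000000000000000000000000000000000000000000000000000000000000000000000000000000000000000000000000000000000000000000000000000000000000000000000000000000000000000000000000000000000000000000000000000000000000000000000000000000000000000000000000000000000000000000000000000000000000000000000000000000000000000000000000000000000000000000000000000000000000000000000000000000000000000000000000000000000000000000000000000000000000000000000000000000000000000000000000000000000000000000000000000000000000000000000000000000000000000000000000000000000000000000000000000000000000000000000000000000000000000000000000000000000000000000000000000000000000000000000000000000000000000000000000000000000000000000000000000000000000000000000000000000000000000000000000000000000000000000000000000000000000000000000000000000000000000000000000000000000000000000000000000000000000000000000000000000000000000000000000000000000000000000000000000000000000000000000000000000000000000000000000000000000000000000000000000000000000000000000000000000000000000000000000000000000000080000000000000000000000000000000000000000000000000000000000000000000000000000000000000000000000000000000000000000000000000000000000000000000000000000000000000000000000000000000000000000000000000000000000000000000000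0000000000000000000000000000000000000000000000000000000000000000000000000000000000000000000000000000000000000000000000000000000000000000000000000000000000000000000200020000000000000000000000000000000000000000000000000000000000000000000000000000000000000000000000000000000000000000000000000000000000000000000000000000000000000000000000000000000000000000000000000000000000000000000000000000000000000000000000000000000000000000000000000000000000000000000000000000000000000000000000000000000004000000000000000000000000000000000000000000000000000000000000000000000000000000000000000000000000000000000000000000000000000000000000000000000000000000000000000000000000000000000000000000000000000000000000000000000000000000000000000000000000000000000000000000000000000000000000000000000000000000000000000000000000000000000000000000000000000000000000000000000000000000000000000000000000000000000000000000000000000000000000000000000000000000000000000000000000000000000000000000000000000000000000000000000000000000000000000000000000000000000000000000000000000000000000000000000000000000000000000000000000000000000000000000000000000000000000000000000000000000000000000000000000000000000000000000000000000000000000000000000000000000000000000000000000000000000000000000000000000000000000000000000000000000000000000000000000000000000000000000000000000000000000000000000000000000000000000000000000000000000000000000000000000000000000000000000000000000000000000000000000000000000000000000000000000000000000000000000000000000000000000000000000000000000000000000000000000000000000000000000000000000000000000000000000000000000000000000000000000000000000000000000000000000000000000000000000000000000000000000000000000000000000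

theorem fix7 : ∀ r ∈ rs7, ∀ b ∈ ([4781, 52, 11589, 8003, 8001, 8005, 0] : List ℕ), wordApply (sgnProg pr) r.toWord (2 ^ b) = 2 ^ b := by decide +kernel

theorem M7_eq : grow pr (rs7.map FreeGroup.toWord) 1 (2 ^ 4850) = M7 := by decide +kernel

theorem M7_lt : M7 < 2 ^ 2 ^ 15 := by decide +kernel

theorem M7_cnt : sumRange M7.testBit 15 0 = 8 := by decide +kernel

theorem L7 : 8 * Nat.card (ptStab Phi ([4850, 4781, 52, 11589, 8003, 8001, 8005, 0] : List ℕ)) ≤ Nat.card (ptStab Phi ([4781, 52, 11589, 8003, 8001, 8005, 0] : List ℕ)) :=
  card_step (M7_eq ▸ sound_ptStab hR hv rs7 fix7 1 4850) M7_lt M7_cnt

/-- The words of level 8. -/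
noncomputable def rs8 : List (FreeGroup Cfsg.Spor.Fi23.Gen) := [
  W [(.b, true), (.d, true), (.c, true), (.e, true), (.h, true), (.d, true), (.h, true), (.e, true), (.c, true), (.d, true), (.i, true), (.f, true), (.e, true), (.d, true), (.c, true), (.g, true), (.f, true), (.h, true), (.d, true), (.e, true), (.d, true), (.h, true), (.f, true), (.g, true), (.c, true), (.d, true), (.e, true), (.f, true), (.b, true), (.c, true), (.b, true), (.i, true), (.d, true), (.c, true), (.e, true), (.h, true), (.d, true), (.h, true), (.e, true), (.c, true), (.d, true), (.i, true), (.f, true), (.e, true), (.d, true), (.c, true), (.g, true), (.f, true), (.h, true), (.d, true), (.e, true), (.d, true), (.h, true), (.f, true), (.g, true), (.c, true), (.d, true), (.e, true), (.f, true), (.b, true), (.d, true), (.c, true), (.e, true), (.h, true), (.d, true), (.h, true), (.e, true), (.c, true), (.d, true), (.b, true), (.f, true), (.e, true), (.d, true), (.c, true), (.g, true), (.f, true), (.h, true), (.d, true), (.e, true), (.d, true), (.h, true), (.f, true), (.g, true), (.c, true), (.d, true), (.e, true), (.f, true), (.i, true), (.d, true), (.c, true), (.e, true), (.h, true), (.d, true), (.h, true), (.e, true), (.c, true), (.d, true), (.i, true), (.b, true), (.c,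 true), (.b, true), (.f, true), (.e, true), (.d, true), (.c, true), (.g, true), (.f, true), (.h, true), (.d, true), (.e, true), (.d, true), (.h, true), (.f, true), (.g, true), (.c, true), (.d, true), (.e, true), (.f, true), (.i, true), (.d, true), (.c, true), (.e, true), (.h, true), (.d, true), (.h, true), (.e, true), (.c, true), (.d, true), (.b, true), (.d, true), (.c, true), (.e, true), (.h, true), (.d, true), (.h, true), (.e, true), (.c, true), (.d, true), (.b, true), (.d, true), (.c, true), (.e, true), (.h, true), (.d, true), (.h, true), (.e, true), (.c, true), (.d, true), (.i, true), (.f, true), (.e, true), (.d, true), (.c, true), (.g, true), (.f, true), (.h, true), (.d, true), (.e, true), (.d, true), (.h, true), (.f, true), (.g, true), (.c, true), (.d, true), (.e, true), (.f, true), (.b, true), (.c, true), (.b, true), (.i, true), (.d, true), (.c, true), (.e, true), (.h, true), (.d, true), (.h, true), (.e, true), (.c, true), (.d, true), (.i, true), (.f, true), (.e, true), (.d, true), (.c, true), (.g, true), (.f, true), (.h, true), (.d, true), (.e, true), (.d, true), (.h, true), (.f, true), (.g, true), (.c, true), (.d, true), (.e, true), (.f, true), (.a, true), (.c, true), (.b, true), (.d, true), (.c, true), (.e, true), (.h, true), (.d,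 true), (.h, true), (.e, true), (.c, true), (.d, true), (.b, true), (.c, true), (.a, true), (.f, true), (.e, true), (.d, true), (.c, true), (.g, true), (.f, true), (.h, true), (.d, true), (.e, true), (.d, true), (.h, true), (.f, true), (.g, true), (.c, true), (.d, true), (.e, true), (.f, true), (.i, true), (.d, true), (.c, true), (.e, true), (.h, true), (.d, true), (.h, true), (.e, true), (.c, true), (.d, true), (.i, true), (.b, true), (.c, true), (.b, true), (.f, true), (.e, true), (.d, true), (.c, true), (.g, true), (.f, true), (.h, true), (.d, true), (.e, true), (.d, true), (.h, true), (.f, true), (.g, true), (.c, true), (.d, true), (.e, true), (.f, true), (.i, true), (.d, true), (.c, true), (.e, true), (.h, true), (.d, true), (.h, true), (.e, true), (.c, true), (.d, true), (.b, true), (.d, true), (.c, true), (.e, true), (.h, true), (.d, true), (.h, true), (.e, true), (.c, true), (.d, true), (.b, true), (.d, true), (.c, true), (.e, true), (.h, true), (.d, true), (.h, true), (.e, true), (.c, true), (.d, true), (.i, true), (.f, true), (.e, true), (.d, true), (.c, true), (.g, true), (.f, true), (.h, true), (.d, true), (.e, true), (.d, true), (.h, true), (.f, true), (.g, true), (.c, true), (.d, true), (.e, true), (.f, true), (.b, true), (.c,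 true), (.b, true), (.i, true), (.d, true), (.c, true), (.e, true), (.h, true), (.d, true), (.h, true), (.e, true), (.c, true), (.d, true), (.i, true), (.f, true), (.e, true), (.d, true), (.c, true), (.g, true), (.f, true), (.h, true), (.d, true), (.e, true), (.d, true), (.h, true), (.f, true), (.g, true), (.c, true), (.d, true), (.e, true), (.f, true), (.b, true), (.d, true), (.c, true), (.e, true), (.h, true), (.d, true), (.h, true), (.e, true), (.c, true), (.d, true), (.b, true), (.f, true), (.e, true), (.d, true), (.c, true), (.g, true), (.f, true), (.h, true), (.d, true), (.e, true), (.d, true), (.h, true), (.f, true), (.g, true), (.c, true), (.d, true), (.e, true), (.f, true), (.i, true), (.d, true), (.c, true), (.e, true), (.h, true), (.d, true), (.h, true), (.e, true), (.c, true), (.d, true), (.i, true), (.b, true), (.c, true), (.b, true), (.f, true), (.e, true), (.d, true), (.c, true), (.g, true), (.f, true), (.h, true), (.d, true), (.e, true), (.d, true), (.h, true), (.f, true), (.g, true), (.c, true), (.d, true), (.e, true), (.f, true), (.i, true), (.d, true), (.c, true), (.e, true), (.h, true), (.d, true), (.h, true), (.e, true), (.c, true), (.d, true), (.b, true)],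
  W [(.b, true), (.d, true), (.c, true), (.e, true), (.h, true), (.d, true), (.h, true), (.e, true), (.c, true), (.d, true), (.i, true), (.f, true), (.e, true), (.d, true), (.c, true), (.g, true), (.f, true), (.h, true), (.d, true), (.e, true), (.d, true), (.h, true), (.f, true), (.g, true), (.c, true), (.d, true), (.e, true), (.f, true), (.b, true), (.c, true), (.b, true), (.i, true), (.d, true), (.c, true), (.e, true), (.h, true), (.d, true), (.h, true), (.e, true), (.c, true), (.d, true), (.i, true), (.f, true), (.e, true), (.d, true), (.c, true), (.g, true), (.f, true), (.h, true), (.d, true), (.e, true), (.d, true), (.h, true), (.f, true), (.g, true), (.c, true), (.d, true), (.e, true), (.f, true), (.b, true), (.d, true), (.c, true), (.e, true), (.h, true), (.d, true), (.h, true), (.e, true), (.c, true), (.d, true), (.b, true), (.f, true), (.e, true), (.d, true), (.c, true), (.g, true), (.f, true), (.h, true), (.d, true), (.e, true), (.d, true), (.h, true), (.f, true), (.g, true), (.c, true), (.d, true), (.e, true), (.f, true), (.i, true), (.d, true), (.c, true), (.e, true), (.h, true), (.d, true), (.h, true), (.e, true), (.c, true), (.d, true), (.i, true), (.b, true), (.c, true), (.b, true), (.f, true), (.e, true), (.d, true), (.c, true),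 (.g, true), (.f, true), (.h, true), (.d, true), (.e, true), (.d, true), (.h, true), (.f, true), (.g, true), (.c, true), (.d, true), (.e, true), (.f, true), (.i, true), (.d, true), (.c, true), (.e, true), (.h, true), (.d, true), (.h, true), (.e, true), (.c, true), (.d, true), (.a, true), (.c, true), (.b, true), (.d, true), (.c, true), (.e, true), (.h, true), (.d, true), (.h, true), (.e, true), (.c, true), (.d, true), (.b, true), (.c, true), (.a, true), (.d, true), (.c, true), (.e, true), (.h, true), (.d, true), (.h, true), (.e, true), (.c, true), (.d, true), (.i, true), (.f, true), (.e, true), (.d, true), (.c, true), (.g, true), (.f, true), (.h, true), (.d, true), (.e, true), (.d, true), (.h, true), (.f, true), (.g, true), (.c, true), (.d, true), (.e, true), (.f, true), (.b, true), (.c, true), (.b, true), (.i, true), (.d, true), (.c, true), (.e, true), (.h, true), (.d, true), (.h, true), (.e, true), (.c, true), (.d, true), (.i, true), (.f, true), (.e, true), (.d, true), (.c, true), (.g, true), (.f, true), (.h, true), (.d, true), (.e, true), (.d, true), (.h, true), (.f, true), (.g, true), (.c, true), (.d, true), (.e, true), (.f, true), (.a, true), (.c, true), (.b, true), (.d, true), (.c, true), (.e, true), (.h, true), (.d, true), (.h, true),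 (.e, true), (.c, true), (.d, true), (.b, true), (.c, true), (.a, true), (.f, true), (.e, true), (.d, true), (.c, true), (.g, true), (.f, true), (.h, true), (.d, true), (.e, true), (.d, true), (.h, true), (.f, true), (.g, true), (.c, true), (.d, true), (.e, true), (.f, true), (.i, true), (.d, true), (.c, true), (.e, true), (.h, true), (.d, true), (.h, true), (.e, true), (.c, true), (.d, true), (.i, true), (.b, true), (.c, true), (.b, true), (.f, true), (.e, true), (.d, true), (.c, true), (.g, true), (.f, true), (.h, true), (.d, true), (.e, true), (.d, true), (.h, true), (.f, true), (.g, true), (.c, true), (.d, true), (.e, true), (.f, true), (.i, true), (.d, true), (.c, true), (.e, true), (.h, true), (.d, true), (.h, true), (.e, true), (.c, true), (.d, true), (.a, true), (.c, true), (.b, true), (.d, true), (.c, true), (.e, true), (.h, true), (.d, true), (.h, true), (.e, true), (.c, true), (.d, true), (.b, true), (.c, true), (.a, true), (.d, true), (.c, true), (.e, true), (.h, true), (.d, true), (.h, true), (.e, true), (.c, true), (.d, true), (.i, true), (.f, true), (.e, true), (.d, true), (.c, true), (.g, true), (.f, true), (.h, true), (.d, true), (.e, true), (.d, true), (.h, true), (.f, true), (.g, true), (.c, true), (.d, true), (.e, true),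 (.f, true), (.b, true), (.c, true), (.b, true), (.i, true), (.d, true), (.c, true), (.e, true), (.h, true), (.d, true), (.h, true), (.e, true), (.c, true), (.d, true), (.i, true), (.f, true), (.e, true), (.d, true), (.c, true), (.g, true), (.f, true), (.h, true), (.d, true), (.e, true), (.d, true), (.h, true), (.f, true), (.g, true), (.c, true), (.d, true), (.e, true), (.f, true), (.b, true), (.d, true), (.c, true), (.e, true), (.h, true), (.d, true), (.h, true), (.e, true), (.c, true), (.d, true), (.b, true), (.f, true), (.e, true), (.d, true), (.c, true), (.g, true), (.f, true), (.h, true), (.d, true), (.e, true), (.d, true), (.h, true), (.f, true), (.g, true), (.c, true), (.d, true), (.e, true), (.f, true), (.i, true), (.d, true), (.c, true), (.e, true), (.h, true), (.d, true), (.h, true), (.e, true), (.c, true), (.d, true), (.i, true), (.b, true), (.c, true), (.b, true), (.f, true), (.e, true), (.d, true), (.c, true), (.g, true), (.f, true), (.h, true), (.d, true), (.e, true), (.d, true), (.h, true), (.f, true), (.g, true), (.c, true), (.d, true), (.e, true), (.f, true), (.i, true), (.d, true), (.c, true), (.e, true), (.h, true), (.d, true), (.h, true), (.e, true), (.c, true), (.d, true), (.b, true)],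
  W [(.b, true), (.d, true), (.c, true), (.e, true), (.h, true), (.d, true), (.h, true), (.e, true), (.c, true), (.d, true), (.i, true), (.f, true), (.e, true), (.d, true), (.c, true), (.g, true), (.f, true), (.h, true), (.d, true), (.e, true), (.d, true), (.h, true), (.f, true), (.g, true), (.c, true), (.d, true), (.e, true), (.f, true), (.b, true), (.c, true), (.b, true), (.i, true), (.d, true), (.c, true), (.e, true), (.h, true), (.d, true), (.h, true), (.e, true), (.c, true), (.d, true), (.i, true), (.f, true), (.e, true), (.d, true), (.c, true), (.g, true), (.f, true), (.h, true), (.d, true), (.e, true), (.d, true), (.h, true), (.f, true), (.g, true), (.c, true), (.d, true), (.e, true), (.f, true), (.d, true), (.c, true), (.e, true), (.h, true), (.d, true), (.h, true), (.e, true), (.c, true), (.d, true), (.i, true), (.f, true), (.e, true), (.d, true), (.c, true), (.g, true), (.f, true), (.h, true), (.d, true), (.e, true), (.d, true), (.h, true), (.f, true), (.g, true), (.c, true), (.d, true), (.e, true), (.f, true), (.b, true), (.c, true), (.b, true), (.i, true), (.d, true), (.c, true), (.e, true), (.h, true), (.d, true), (.h, true), (.e, true), (.c, true), (.d, true), (.i, true), (.f, true), (.e, true), (.d, true), (.c, true), (.g, true),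 (.f, true), (.h, true), (.d, true), (.e, true), (.d, true), (.h, true), (.f, true), (.g, true), (.c, true), (.d, true), (.e, true), (.f, true), (.d, true), (.c, true), (.e, true), (.h, true), (.d, true), (.h, true), (.e, true), (.c, true), (.d, true), (.i, true), (.f, true), (.e, true), (.d, true), (.c, true), (.g, true), (.f, true), (.h, true), (.d, true), (.e, true), (.d, true), (.h, true), (.f, true), (.g, true), (.c, true), (.d, true), (.e, true), (.f, true), (.b, true), (.c, true), (.b, true), (.i, true), (.d, true), (.c, true), (.e, true), (.h, true), (.d, true), (.h, true), (.e, true), (.c, true), (.d, true), (.i, true), (.f, true), (.e, true), (.d, true), (.c, true), (.g, true), (.f, true), (.h, true), (.d, true), (.e, true), (.d, true), (.h, true), (.f, true), (.g, true), (.c, true), (.d, true), (.e, true), (.f, true), (.d, true), (.c, true), (.e, true), (.h, true), (.d, true), (.h, true), (.e, true), (.c, true), (.d, true), (.i, true), (.f, true), (.e, true), (.d, true), (.c, true), (.g, true), (.f, true), (.h, true), (.d, true), (.e, true), (.d, true), (.h, true), (.f, true), (.g, true), (.c, true), (.d, true), (.e, true), (.f, true), (.b, true), (.c, true), (.b, true), (.i, true), (.d, true), (.c, true), (.e, true), (.h, true),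 (.d, true), (.h, true), (.e, true), (.c, true), (.d, true), (.i, true), (.f, true), (.e, true), (.d, true), (.c, true), (.g, true), (.f, true), (.h, true), (.d, true), (.e, true), (.d, true), (.h, true), (.f, true), (.g, true), (.c, true), (.d, true), (.e, true), (.f, true), (.b, true), (.d, true), (.c, true), (.e, true), (.h, true), (.d, true), (.h, true), (.e, true), (.c, true), (.d, true), (.b, true), (.f, true), (.e, true), (.d, true), (.c, true), (.g, true), (.f, true), (.h, true), (.d, true), (.e, true), (.d, true), (.h, true), (.f, true), (.g, true), (.c, true), (.d, true), (.e, true), (.f, true), (.i, true), (.d, true), (.c, true), (.e, true), (.h, true), (.d, true), (.h, true), (.e, true), (.c, true), (.d, true), (.i, true), (.b, true), (.c, true), (.b, true), (.f, true), (.e, true), (.d, true), (.c, true), (.g, true), (.f, true), (.h, true), (.d, true), (.e, true), (.d, true), (.h, true), (.f, true), (.g, true), (.c, true), (.d, true), (.e, true), (.f, true), (.i, true), (.d, true), (.c, true), (.e, true), (.h, true), (.d, true), (.h, true), (.e, true), (.c, true), (.d, true), (.f, true), (.e, true), (.d, true), (.c, true), (.g, true), (.f, true), (.h, true), (.d, true), (.e, true), (.d, true), (.h, true), (.f, true), (.g, true),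 (.c, true), (.d, true), (.e, true), (.f, true), (.i, true), (.d, true), (.c, true), (.e, true), (.h, true), (.d, true), (.h, true), (.e, true), (.c, true), (.d, true), (.i, true), (.b, true), (.c, true), (.b, true), (.f, true), (.e, true), (.d, true), (.c, true), (.g, true), (.f, true), (.h, true), (.d, true), (.e, true), (.d, true), (.h, true), (.f, true), (.g, true), (.c, true), (.d, true), (.e, true), (.f, true), (.i, true), (.d, true), (.c, true), (.e, true), (.h, true), (.d, true), (.h, true), (.e, true), (.c, true), (.d, true), (.f, true), (.e, true), (.d, true), (.c, true), (.g, true), (.f, true), (.h, true), (.d, true), (.e, true), (.d, true), (.h, true), (.f, true), (.g, true), (.c, true), (.d, true), (.e, true), (.f, true), (.i, true), (.d, true), (.c, true), (.e, true), (.h, true), (.d, true), (.h, true), (.e, true), (.c, true), (.d, true), (.i, true), (.b, true), (.c, true), (.b, true), (.f, true), (.e, true), (.d, true), (.c, true), (.g, true), (.f, true), (.h, true), (.d, true), (.e, true), (.d, true), (.h, true), (.f, true), (.g, true), (.c, true), (.d, true), (.e, true), (.f, true), (.i, true), (.d, true), (.c, true), (.e, true), (.h, true), (.d, true), (.h, true), (.e, true), (.c, true), (.d, true), (.b, true), (.d, true),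 (.c, true), (.e, true), (.h, true), (.d, true), (.h, true), (.e, true), (.c, true), (.d, true), (.b, true), (.f, true), (.e, true), (.d, true), (.c, true), (.g, true), (.f, true), (.h, true), (.d, true), (.e, true), (.d, true), (.h, true), (.f, true), (.g, true), (.c, true), (.d, true), (.e, true), (.f, true), (.i, true), (.d, true), (.c, true), (.e, true), (.h, true), (.d, true), (.h, true), (.e, true), (.c, true), (.d, true), (.i, true), (.b, true), (.c, true), (.b, true), (.f, true), (.e, true), (.d, true), (.c, true), (.g, true), (.f, true), (.h, true), (.d, true), (.e, true), (.d, true), (.h, true), (.f, true), (.g, true), (.c, true), (.d, true), (.e, true), (.f, true), (.i, true), (.d, true), (.c, true), (.e, true), (.h, true), (.d, true), (.h, true), (.e, true), (.c, true), (.d, true), (.b, true), (.d, true), (.c, true), (.e, true), (.h, true), (.d, true), (.h, true), (.e, true), (.c, true), (.d, true), (.b, true), (.a, true), (.c, true), (.b, true), (.d, true), (.c, true), (.e, true), (.h, true), (.d, true), (.h, true), (.e, true), (.c, true), (.d, true), (.b, true), (.c, true), (.a, true), (.f, true), (.e, true), (.d, true), (.c, true), (.g, true), (.f, true), (.h, true), (.d, true), (.e, true), (.d, true), (.h, true), (.f, true),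 (.g, true), (.c, true), (.d, true), (.e, true), (.f, true), (.i, true), (.d, true), (.c, true), (.e, true), (.h, true), (.d, true), (.h, true), (.e, true), (.c, true), (.d, true), (.i, true), (.b, true), (.c, true), (.b, true), (.f, true), (.e, true), (.d, true), (.c, true), (.g, true), (.f, true), (.h, true), (.d, true), (.e, true), (.d, true), (.h, true), (.f, true), (.g, true), (.c, true), (.d, true), (.e, true), (.f, true), (.i, true), (.d, true), (.c, true), (.e, true), (.h, true), (.d, true), (.h, true), (.e, true), (.c, true), (.d, true), (.f, true), (.e, true), (.d, true), (.c, true), (.g, true), (.f, true), (.h, true), (.d, true), (.e, true), (.d, true), (.h, true), (.f, true), (.g, true), (.c, true), (.d, true), (.e, true), (.f, true), (.i, true), (.d, true), (.c, true), (.e, true), (.h, true), (.d, true), (.h, true), (.e, true), (.c, true), (.d, true), (.i, true), (.b, true), (.c, true), (.b, true), (.f, true), (.e, true), (.d, true), (.c, true), (.g, true), (.f, true), (.h, true), (.d, true), (.e, true), (.d, true), (.h, true), (.f, true), (.g, true), (.c, true), (.d, true), (.e, true), (.f, true), (.i, true), (.d, true), (.c, true), (.e, true), (.h, true), (.d, true), (.h, true), (.e, true), (.c, true), (.d, true), (.f, true),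 (.e, true), (.d, true), (.c, true), (.g, true), (.f, true), (.h, true), (.d, true), (.e, true), (.d, true), (.h, true), (.f, true), (.g, true), (.c, true), (.d, true), (.e, true), (.f, true), (.i, true), (.d, true), (.c, true), (.e, true), (.h, true), (.d, true), (.h, true), (.e, true), (.c, true), (.d, true), (.i, true), (.b, true), (.c, true), (.b, true), (.f, true), (.e, true), (.d, true), (.c, true), (.g, true), (.f, true), (.h, true), (.d, true), (.e, true), (.d, true), (.h, true), (.f, true), (.g, true), (.c, true), (.d, true), (.e, true), (.f, true), (.i, true), (.d, true), (.c, true), (.e, true), (.h, true), (.d, true), (.h, true), (.e, true), (.c, true), (.d, true), (.a, true), (.c, true), (.b, true), (.d, true), (.c, true), (.e, true), (.h, true), (.d, true), (.h, true), (.e, true), (.c, true), (.d, true), (.b, true), (.c, true), (.a, true), (.b, true), (.d, true), (.c, true), (.e, true), (.h, true), (.d, true), (.h, true), (.e, true), (.c, true), (.d, true), (.b, true), (.f, true), (.e, true), (.d, true), (.c, true), (.g, true), (.f, true), (.h, true), (.d, true), (.e, true), (.d, true), (.h, true), (.f, true), (.g, true), (.c, true), (.d, true), (.e, true), (.f, true), (.i, true), (.d, true), (.c, true), (.e, true), (.h, true),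 (.d, true), (.h, true), (.e, true), (.c, true), (.d, true), (.i, true), (.b, true), (.c, true), (.b, true), (.f, true), (.e, true), (.d, true), (.c, true), (.g, true), (.f, true), (.h, true), (.d, true), (.e, true), (.d, true), (.h, true), (.f, true), (.g, true), (.c, true), (.d, true), (.e, true), (.f, true), (.i, true), (.d, true), (.c, true), (.e, true), (.h, true), (.d, true), (.h, true), (.e, true), (.c, true), (.d, true), (.f, true), (.e, true), (.d, true), (.c, true), (.g, true), (.f, true), (.h, true), (.d, true), (.e, true), (.d, true), (.h, true), (.f, true), (.g, true), (.c, true), (.d, true), (.e, true), (.f, true), (.i, true), (.d, true), (.c, true), (.e, true), (.h, true), (.d, true), (.h, true), (.e, true), (.c, true), (.d, true), (.i, true), (.b, true), (.c, true), (.b, true), (.f, true), (.e, true), (.d, true), (.c, true), (.g, true), (.f, true), (.h, true), (.d, true), (.e, true), (.d, true), (.h, true), (.f, true), (.g, true), (.c, true), (.d, true), (.e, true), (.f, true), (.i, true), (.d, true), (.c, true), (.e, true), (.h, true), (.d, true), (.h, true), (.e, true), (.c, true), (.d, true), (.b, true), (.d, true), (.c, true), (.e, true), (.h, true), (.d, true), (.h, true), (.e, true), (.c, true), (.d, true), (.b, true),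 (.f, true), (.e, true), (.d, true), (.c, true), (.g, true), (.f, true), (.h, true), (.d, true), (.e, true), (.d, true), (.h, true), (.f, true), (.g, true), (.c, true), (.d, true), (.e, true), (.f, true), (.i, true), (.d, true), (.c, true), (.e, true), (.h, true), (.d, true), (.h, true), (.e, true), (.c, true), (.d, true), (.i, true), (.b, true), (.c, true), (.b, true), (.f, true), (.e, true), (.d, true), (.c, true), (.g, true), (.f, true), (.h, true), (.d, true), (.e, true), (.d, true), (.h, true), (.f, true), (.g, true), (.c, true), (.d, true), (.e, true), (.f, true), (.i, true), (.d, true), (.c, true), (.e, true), (.h, true), (.d, true), (.h, true), (.e, true), (.c, true), (.d, true), (.b, true)]]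

/-- The mask of level 8. -/
def M8 : ℕ := nat_lit 0x200000000000000000000000000000000000000000000000000000000000000000000000000000000000000000000000000000000000000000000000000000000000000000000000000000000000000000000000000000000000000000000000000000000000000000000000000000000000000000000000000000000000000000000000000000000000000000000000000000000000000000000000000000000000000000000000000000000000000000000000000000000000000000000000000000000000000000000000000000000000000000000000000000000000000000000000000000000000000000000000000000000000000000000000000000000000000000000000000000000000000000000000000000000000000000000000000000000000000000000000000000000000000000000000000000000020000000000000000000000000000000000000000000000000000000000000000000000000000000000000000000000000000000000000000000000000000000000000000000000000000000000000000000000000000000000000000000000000000000000000000000000000000000000000000000000000000000000000000000000000000000000000000000000000000000000000000000000000000000000000000000000000000000000000000000000000000000000000000000000000000000000000000000000000000000000000000000000000000000000000000000000000000000000000000000000000000000000000000000000000000000000000000000000000000000000000000000000000000000000000000000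000000000000000000000000000000000000000000000000000000000000000000000000000000000000000000000000000000000000000000000000000000000000000000000000000000000000000000000000000000000000000000000000000000000000000000000000000000000000000000000000000000000000000000000000000000000000000000000000000000000000000000000000000000000000000000000000000000000000000000000000000000000000000000000000000000000000000000000000000000000000000000000000000000000000000000000000000000000000000000000000000000000000000000000000000000000000000000000000000000000000000000000000000000000000000000000000000000000000000000000000000000000000000000000000000000000000000000000000000000000000000000000000000000000000000000000000000000000000000000000000000000000000000000000000000000000000000000000000000000000000000000000000000000000000000000000000000000000000000000000000000000000000000000000000000000000000000000000000000000000000000000000000000000000000000000000000000000000000000000000000000000000000000000000000000000000000000000000000000000000000000000000000000000000000000000000000000000000000000000000000000000000000000000000000000000000000000000000000000000000000000000000000000000000000000000000000000000000000000000000000000000000000000000000000000000000000000000000000000000000000000000000000000000000000000000000000000000000000000000000000000000000000000000000000000000000000000000000000000000000000000000000000000000000000000000000000000000000000000000000000000000000000000000000000000000000000000000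

theorem fix8 : ∀ r ∈ rs8, ∀ b ∈ ([4850, 4781, 52, 11589, 8003, 8001, 8005, 0] : List ℕ), wordApply (sgnProg pr) r.toWord (2 ^ b) = 2 ^ b := by decide +kernel

theorem M8_eq : grow pr (rs8.map FreeGroup.toWord) 1 (2 ^ 8213) = M8 := by decide +kernel

theorem M8_lt : M8 < 2 ^ 2 ^ 15 := by decide +kernel

theorem M8_cnt : sumRange M8.testBit 15 0 = 2 := by decide +kernel

theorem L8 : 2 * Nat.card (ptStab Phi ([8213, 4850, 4781, 52, 11589, 8003, 8001, 8005, 0] : List ℕ)) ≤ Nat.card (ptStab Phi ([4850, 4781, 52, 11589, 8003, 8001, 8005, 0] : List ℕ)) :=
  card_step (M8_eq ▸ sound_ptStab hR hv rs8 fix8 1 8213) M8_lt M8_cnt

/-- The words of level 9. -/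
noncomputable def rs9 : List (FreeGroup Cfsg.Spor.Fi23.Gen) := [
  W [(.b, true), (.d, true), (.c, true), (.e, true), (.h, true), (.d, true), (.h, true), (.e, true), (.c, true), (.d, true), (.i, true), (.f, true), (.e, true), (.d, true), (.c, true), (.g, true), (.f, true), (.h, true), (.d, true), (.e, true), (.d, true), (.h, true), (.f, true), (.g, true), (.c, true), (.d, true), (.e, true), (.f, true), (.b, true), (.c, true), (.b, true), (.i, true), (.d, true), (.c, true), (.e, true), (.h, true), (.d, true), (.h, true), (.e, true), (.c, true), (.d, true), (.i, true), (.f, true), (.e, true), (.d, true), (.c, true), (.g, true), (.f, true), (.h, true), (.d, true), (.e, true), (.d, true), (.h, true), (.f, true), (.g, true), (.c, true), (.d, true), (.e, true), (.f, true), (.b, true), (.d, true), (.c, true), (.e, true), (.h, true), (.d, true), (.h, true), (.e, true), (.c, true), (.d, true), (.b, true), (.f, true), (.e, true), (.d, true), (.c, true), (.g, true), (.f, true), (.h, true), (.d, true), (.e, true), (.d, true), (.h, true), (.f, true), (.g, true), (.c, true), (.d, true), (.e, true), (.f, true), (.i, true), (.d, true), (.c, true), (.e, true), (.h, true), (.d, true), (.h, true), (.e, true), (.c, true), (.d, true), (.i, true), (.b, true), (.c,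 true), (.b, true), (.f, true), (.e, true), (.d, true), (.c, true), (.g, true), (.f, true), (.h, true), (.d, true), (.e, true), (.d, true), (.h, true), (.f, true), (.g, true), (.c, true), (.d, true), (.e, true), (.f, true), (.i, true), (.d, true), (.c, true), (.e, true), (.h, true), (.d, true), (.h, true), (.e, true), (.c, true), (.d, true), (.b, true), (.d, true), (.c, true), (.e, true), (.h, true), (.d, true), (.h, true), (.e, true), (.c, true), (.d, true), (.b, true), (.d, true), (.c, true), (.e, true), (.h, true), (.d, true), (.h, true), (.e, true), (.c, true), (.d, true), (.i, true), (.f, true), (.e, true), (.d, true), (.c, true), (.g, true), (.f, true), (.h, true), (.d, true), (.e, true), (.d, true), (.h, true), (.f, true), (.g, true), (.c, true), (.d, true), (.e, true), (.f, true), (.b, true), (.c, true), (.b, true), (.i, true), (.d, true), (.c, true), (.e, true), (.h, true), (.d, true), (.h, true), (.e, true), (.c, true), (.d, true), (.i, true), (.f, true), (.e, true), (.d, true), (.c, true), (.g, true), (.f, true), (.h, true), (.d, true), (.e, true), (.d, true), (.h, true), (.f, true), (.g, true), (.c, true), (.d, true), (.e, true), (.f, true), (.a, true), (.c, true), (.b, true), (.d, true), (.c, true), (.e, true), (.h, true), (.d,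 true), (.h, true), (.e, true), (.c, true), (.d, true), (.b, true), (.c, true), (.a, true), (.f, true), (.e, true), (.d, true), (.c, true), (.g, true), (.f, true), (.h, true), (.d, true), (.e, true), (.d, true), (.h, true), (.f, true), (.g, true), (.c, true), (.d, true), (.e, true), (.f, true), (.i, true), (.d, true), (.c, true), (.e, true), (.h, true), (.d, true), (.h, true), (.e, true), (.c, true), (.d, true), (.i, true), (.b, true), (.c, true), (.b, true), (.f, true), (.e, true), (.d, true), (.c, true), (.g, true), (.f, true), (.h, true), (.d, true), (.e, true), (.d, true), (.h, true), (.f, true), (.g, true), (.c, true), (.d, true), (.e, true), (.f, true), (.i, true), (.d, true), (.c, true), (.e, true), (.h, true), (.d, true), (.h, true), (.e, true), (.c, true), (.d, true), (.b, true), (.d, true), (.c, true), (.e, true), (.h, true), (.d, true), (.h, true), (.e, true), (.c, true), (.d, true), (.b, true), (.d, true), (.c, true), (.e, true), (.h, true), (.d, true), (.h, true), (.e, true), (.c, true), (.d, true), (.i, true), (.f, true), (.e, true), (.d, true), (.c, true), (.g, true), (.f, true), (.h, true), (.d, true), (.e, true), (.d, true), (.h, true), (.f, true), (.g, true), (.c, true), (.d, true), (.e, true), (.f, true), (.b, true), (.c,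 true), (.b, true), (.i, true), (.d, true), (.c, true), (.e, true), (.h, true), (.d, true), (.h, true), (.e, true), (.c, true), (.d, true), (.i, true), (.f, true), (.e, true), (.d, true), (.c, true), (.g, true), (.f, true), (.h, true), (.d, true), (.e, true), (.d, true), (.h, true), (.f, true), (.g, true), (.c, true), (.d, true), (.e, true), (.f, true), (.b, true), (.d, true), (.c, true), (.e, true), (.h, true), (.d, true), (.h, true), (.e, true), (.c, true), (.d, true), (.b, true), (.f, true), (.e, true), (.d, true), (.c, true), (.g, true), (.f, true), (.h, true), (.d, true), (.e, true), (.d, true), (.h, true), (.f, true), (.g, true), (.c, true), (.d, true), (.e, true), (.f, true), (.i, true), (.d, true), (.c, true), (.e, true), (.h, true), (.d, true), (.h, true), (.e, true), (.c, true), (.d, true), (.i, true), (.b, true), (.c, true), (.b, true), (.f, true), (.e, true), (.d, true), (.c, true), (.g, true), (.f, true), (.h, true), (.d, true), (.e, true), (.d, true), (.h, true), (.f, true), (.g, true), (.c, true), (.d, true), (.e, true), (.f, true), (.i, true), (.d, true), (.c, true), (.e, true), (.h, true), (.d, true), (.h, true), (.e, true), (.c, true), (.d, true), (.b, true)],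
  W [(.b, true), (.d, true), (.c, true), (.e, true), (.h, true), (.d, true), (.h, true), (.e, true), (.c, true), (.d, true), (.i, true), (.f, true), (.e, true), (.d, true), (.c, true), (.g, true), (.f, true), (.h, true), (.d, true), (.e, true), (.d, true), (.h, true), (.f, true), (.g, true), (.c, true), (.d, true), (.e, true), (.f, true), (.b, true), (.c, true), (.b, true), (.i, true), (.d, true), (.c, true), (.e, true), (.h, true), (.d, true), (.h, true), (.e, true), (.c, true), (.d, true), (.i, true), (.f, true), (.e, true), (.d, true), (.c, true), (.g, true), (.f, true), (.h, true), (.d, true), (.e, true), (.d, true), (.h, true), (.f, true), (.g, true), (.c, true), (.d, true), (.e, true), (.f, true), (.d, true), (.c, true), (.e, true), (.h, true), (.d, true), (.h, true), (.e, true), (.c, true), (.d, true), (.i, true), (.f, true), (.e, true), (.d, true), (.c, true), (.g, true), (.f, true), (.h, true), (.d, true), (.e, true), (.d, true), (.h, true), (.f, true), (.g, true), (.c, true), (.d, true), (.e, true), (.f, true), (.b, true), (.c, true), (.b, true), (.i, true), (.d, true), (.c, true), (.e, true), (.h, true), (.d, true), (.h, true), (.e, true), (.c, true), (.d, true), (.i, true), (.f, true), (.e, true), (.d, true), (.c, true), (.g, true),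 (.f, true), (.h, true), (.d, true), (.e, true), (.d, true), (.h, true), (.f, true), (.g, true), (.c, true), (.d, true), (.e, true), (.f, true), (.d, true), (.c, true), (.e, true), (.h, true), (.d, true), (.h, true), (.e, true), (.c, true), (.d, true), (.i, true), (.f, true), (.e, true), (.d, true), (.c, true), (.g, true), (.f, true), (.h, true), (.d, true), (.e, true), (.d, true), (.h, true), (.f, true), (.g, true), (.c, true), (.d, true), (.e, true), (.f, true), (.b, true), (.c, true), (.b, true), (.i, true), (.d, true), (.c, true), (.e, true), (.h, true), (.d, true), (.h, true), (.e, true), (.c, true), (.d, true), (.i, true), (.f, true), (.e, true), (.d, true), (.c, true), (.g, true), (.f, true), (.h, true), (.d, true), (.e, true), (.d, true), (.h, true), (.f, true), (.g, true), (.c, true), (.d, true), (.e, true), (.f, true), (.d, true), (.c, true), (.e, true), (.h, true), (.d, true), (.h, true), (.e, true), (.c, true), (.d, true), (.i, true), (.f, true), (.e, true), (.d, true), (.c, true), (.g, true), (.f, true), (.h, true), (.d, true), (.e, true), (.d, true), (.h, true), (.f, true), (.g, true), (.c, true), (.d, true), (.e, true), (.f, true), (.b, true), (.c, true), (.b, true), (.i, true), (.d, true), (.c, true), (.e, true), (.h, true),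 (.d, true), (.h, true), (.e, true), (.c, true), (.d, true), (.i, true), (.f, true), (.e, true), (.d, true), (.c, true), (.g, true), (.f, true), (.h, true), (.d, true), (.e, true), (.d, true), (.h, true), (.f, true), (.g, true), (.c, true), (.d, true), (.e, true), (.f, true), (.b, true), (.d, true), (.c, true), (.e, true), (.h, true), (.d, true), (.h, true), (.e, true), (.c, true), (.d, true), (.b, true), (.f, true), (.e, true), (.d, true), (.c, true), (.g, true), (.f, true), (.h, true), (.d, true), (.e, true), (.d, true), (.h, true), (.f, true), (.g, true), (.c, true), (.d, true), (.e, true), (.f, true), (.i, true), (.d, true), (.c, true), (.e, true), (.h, true), (.d, true), (.h, true), (.e, true), (.c, true), (.d, true), (.i, true), (.b, true), (.c, true), (.b, true), (.f, true), (.e, true), (.d, true), (.c, true), (.g, true), (.f, true), (.h, true), (.d, true), (.e, true), (.d, true), (.h, true), (.f, true), (.g, true), (.c, true), (.d, true), (.e, true), (.f, true), (.i, true), (.d, true), (.c, true), (.e, true), (.h, true), (.d, true), (.h, true), (.e, true), (.c, true), (.d, true), (.f, true), (.e, true), (.d, true), (.c, true), (.g, true), (.f, true), (.h, true), (.d, true), (.e, true), (.d, true), (.h, true), (.f, true), (.g, true),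 (.c, true), (.d, true), (.e, true), (.f, true), (.i, true), (.d, true), (.c, true), (.e, true), (.h, true), (.d, true), (.h, true), (.e, true), (.c, true), (.d, true), (.i, true), (.b, true), (.c, true), (.b, true), (.f, true), (.e, true), (.d, true), (.c, true), (.g, true), (.f, true), (.h, true), (.d, true), (.e, true), (.d, true), (.h, true), (.f, true), (.g, true), (.c, true), (.d, true), (.e, true), (.f, true), (.i, true), (.d, true), (.c, true), (.e, true), (.h, true), (.d, true), (.h, true), (.e, true), (.c, true), (.d, true), (.f, true), (.e, true), (.d, true), (.c, true), (.g, true), (.f, true), (.h, true), (.d, true), (.e, true), (.d, true), (.h, true), (.f, true), (.g, true), (.c, true), (.d, true), (.e, true), (.f, true), (.i, true), (.d, true), (.c, true), (.e, true), (.h, true), (.d, true), (.h, true), (.e, true), (.c, true), (.d, true), (.i, true), (.b, true), (.c, true), (.b, true), (.f, true), (.e, true), (.d, true), (.c, true), (.g, true), (.f, true), (.h, true), (.d, true), (.e, true), (.d, true), (.h, true), (.f, true), (.g, true), (.c, true), (.d, true), (.e, true), (.f, true), (.i, true), (.d, true), (.c, true), (.e, true), (.h, true), (.d, true), (.h, true), (.e, true), (.c, true), (.d, true), (.b, true), (.d, true),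 (.c, true), (.e, true), (.h, true), (.d, true), (.h, true), (.e, true), (.c, true), (.d, true), (.b, true), (.f, true), (.e, true), (.d, true), (.c, true), (.g, true), (.f, true), (.h, true), (.d, true), (.e, true), (.d, true), (.h, true), (.f, true), (.g, true), (.c, true), (.d, true), (.e, true), (.f, true), (.i, true), (.d, true), (.c, true), (.e, true), (.h, true), (.d, true), (.h, true), (.e, true), (.c, true), (.d, true), (.i, true), (.b, true), (.c, true), (.b, true), (.f, true), (.e, true), (.d, true), (.c, true), (.g, true), (.f, true), (.h, true), (.d, true), (.e, true), (.d, true), (.h, true), (.f, true), (.g, true), (.c, true), (.d, true), (.e, true), (.f, true), (.i, true), (.d, true), (.c, true), (.e, true), (.h, true), (.d, true), (.h, true), (.e, true), (.c, true), (.d, true), (.b, true), (.d, true), (.c, true), (.e, true), (.h, true), (.d, true), (.h, true), (.e, true), (.c, true), (.d, true), (.b, true), (.a, true), (.c, true), (.b, true), (.d, true), (.c, true), (.e, true), (.h, true), (.d, true), (.h, true), (.e, true), (.c, true), (.d, true), (.b, true), (.c, true), (.a, true), (.f, true), (.e, true), (.d, true), (.c, true), (.g, true), (.f, true), (.h, true), (.d, true), (.e, true), (.d, true), (.h, true), (.f, true),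 (.g, true), (.c, true), (.d, true), (.e, true), (.f, true), (.i, true), (.d, true), (.c, true), (.e, true), (.h, true), (.d, true), (.h, true), (.e, true), (.c, true), (.d, true), (.i, true), (.b, true), (.c, true), (.b, true), (.f, true), (.e, true), (.d, true), (.c, true), (.g, true), (.f, true), (.h, true), (.d, true), (.e, true), (.d, true), (.h, true), (.f, true), (.g, true), (.c, true), (.d, true), (.e, true), (.f, true), (.i, true), (.d, true), (.c, true), (.e, true), (.h, true), (.d, true), (.h, true), (.e, true), (.c, true), (.d, true), (.f, true), (.e, true), (.d, true), (.c, true), (.g, true), (.f, true), (.h, true), (.d, true), (.e, true), (.d, true), (.h, true), (.f, true), (.g, true), (.c, true), (.d, true), (.e, true), (.f, true), (.i, true), (.d, true), (.c, true), (.e, true), (.h, true), (.d, true), (.h, true), (.e, true), (.c, true), (.d, true), (.i, true), (.b, true), (.c, true), (.b, true), (.f, true), (.e, true), (.d, true), (.c, true), (.g, true), (.f, true), (.h, true), (.d, true), (.e, true), (.d, true), (.h, true), (.f, true), (.g, true), (.c, true), (.d, true), (.e, true), (.f, true), (.i, true), (.d, true), (.c, true), (.e, true), (.h, true), (.d, true), (.h, true), (.e, true), (.c, true), (.d, true), (.f, true),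 (.e, true), (.d, true), (.c, true), (.g, true), (.f, true), (.h, true), (.d, true), (.e, true), (.d, true), (.h, true), (.f, true), (.g, true), (.c, true), (.d, true), (.e, true), (.f, true), (.i, true), (.d, true), (.c, true), (.e, true), (.h, true), (.d, true), (.h, true), (.e, true), (.c, true), (.d, true), (.i, true), (.b, true), (.c, true), (.b, true), (.f, true), (.e, true), (.d, true), (.c, true), (.g, true), (.f, true), (.h, true), (.d, true), (.e, true), (.d, true), (.h, true), (.f, true), (.g, true), (.c, true), (.d, true), (.e, true), (.f, true), (.i, true), (.d, true), (.c, true), (.e, true), (.h, true), (.d, true), (.h, true), (.e, true), (.c, true), (.d, true), (.a, true), (.c, true), (.b, true), (.d, true), (.c, true), (.e, true), (.h, true), (.d, true), (.h, true), (.e, true), (.c, true), (.d, true), (.b, true), (.c, true), (.a, true), (.b, true), (.d, true), (.c, true), (.e, true), (.h, true), (.d, true), (.h, true), (.e, true), (.c, true), (.d, true), (.b, true), (.f, true), (.e, true), (.d, true), (.c, true), (.g, true), (.f, true), (.h, true), (.d, true), (.e, true), (.d, true), (.h, true), (.f, true), (.g, true), (.c, true), (.d, true), (.e, true), (.f, true), (.i, true), (.d, true), (.c, true), (.e, true), (.h, true),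 (.d, true), (.h, true), (.e, true), (.c, true), (.d, true), (.i, true), (.b, true), (.c, true), (.b, true), (.f, true), (.e, true), (.d, true), (.c, true), (.g, true), (.f, true), (.h, true), (.d, true), (.e, true), (.d, true), (.h, true), (.f, true), (.g, true), (.c, true), (.d, true), (.e, true), (.f, true), (.i, true), (.d, true), (.c, true), (.e, true), (.h, true), (.d, true), (.h, true), (.e, true), (.c, true), (.d, true), (.f, true), (.e, true), (.d, true), (.c, true), (.g, true), (.f, true), (.h, true), (.d, true), (.e, true), (.d, true), (.h, true), (.f, true), (.g, true), (.c, true), (.d, true), (.e, true), (.f, true), (.i, true), (.d, true), (.c, true), (.e, true), (.h, true), (.d, true), (.h, true), (.e, true), (.c, true), (.d, true), (.i, true), (.b, true), (.c, true), (.b, true), (.f, true), (.e, true), (.d, true), (.c, true), (.g, true), (.f, true), (.h, true), (.d, true), (.e, true), (.d, true), (.h, true), (.f, true), (.g, true), (.c, true), (.d, true), (.e, true), (.f, true), (.i, true), (.d, true), (.c, true), (.e, true), (.h, true), (.d, true), (.h, true), (.e, true), (.c, true), (.d, true), (.b, true), (.d, true), (.c, true), (.e, true), (.h, true), (.d, true), (.h, true), (.e, true), (.c, true), (.d, true), (.b, true),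 (.f, true), (.e, true), (.d, true), (.c, true), (.g, true), (.f, true), (.h, true), (.d, true), (.e, true), (.d, true), (.h, true), (.f, true), (.g, true), (.c, true), (.d, true), (.e, true), (.f, true), (.i, true), (.d, true), (.c, true), (.e, true), (.h, true), (.d, true), (.h, true), (.e, true), (.c, true), (.d, true), (.i, true), (.b, true), (.c, true), (.b, true), (.f, true), (.e, true), (.d, true), (.c, true), (.g, true), (.f, true), (.h, true), (.d, true), (.e, true), (.d, true), (.h, true), (.f, true), (.g, true), (.c, true), (.d, true), (.e, true), (.f, true), (.i, true), (.d, true), (.c, true), (.e, true), (.h, true), (.d, true), (.h, true), (.e, true), (.c, true), (.d, true), (.b, true)]]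

/-- The mask of level 9. -/
def M9 : ℕ := nat_lit 0x400000000000000000000000000000000000000000000000000000000000000000000000000000000000000000000000000000000000000000000000000000000000000000000000000000000000000000000000000000000000000000000000000000000000000000000000000000000000000000000000000000000000000000000000000000000000000000000000000000000000000000000000000000000000000000000000000000000000000000000000000000000000000000000000000000000000000000000000000000000000000000000000000000000000000000000000000000000000000000000000000000000000000000000000000000000000000000000000000000000000000000000000000000000000000000000000000000000000000000000000000000000000000000000000000000000000000000000000000000000000000000000000000000000000000000000000000000000000000000000000000000000000000000000000000000000000000000000000000000000000000000000000000000000000000000000000000000000000000000000000000000000000000000000000000000000000000000000000000000000000000000000000000000000000000000000000000000000000000000000000000000000000000000000000000000000000000000000000000000000000000000000000000000000000000000000000000000000000000000000000000000000000000000000000000000000000000000000000000000000000000000000000000000000000000000000000000000000000000000000000000000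000000000000000000000000000000000000000000000000000000000000000000000000000000000000000000000000000000000000000000000000000000000000000000000000000000000004000000000000000000000000000000000000000000000000000000000000000000000000000000000000000000000000000000000000000000000000000000000000000000000000000000000000000000000000000000000000000000000000000000000000000000000000000000000000000000000000000000000000000000000000000000000000000000000000000000000000000000000000000000000000000000000000000000000000000000000000000000000000000000000000000000000000000000000000000000000000000000000000000000000000000000000000000000000000000000000000000000000000000000000000000000000000000000000000000000000000000000000000000000000000000000000000000000000000000000000000000000000000000000000000000000000000000000000000000000000000000000000000000000000000000000000000000000000000000000000000000000000000000000000000000000000000000000000000000000000000000000000000000000000000000000000000000000000000000000000000000000000000000000000000000000000000000000000000000000000000000000000000000000000000000000000000000000000000000000000000000000000000000000000000000000000000000000000000000000000000000000000000000000000000000000000000000000000000000000000000000000000000000000000000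000000000000000000000000000000000000000000000000000000000000000000000000000000000000000000000000000000000000000000000000000000000000000000000000000000000000000000000000000000000000000000000000000000000000000000000000000000000000000000000000000000000000000000000000000000000000000000000000000000000000000000000000000000000000000000000000000000000000000000000000000000000000000000000000000000000000000000000000000000000000000000000000000000000000000000000000000000000000000000000000000000000000000000000000000000000000000000000000000000000000000000000000000000000000000000000000000000000000000000000000000000000000000000000000000000000000000000000000000000000000000000000000000000000000000000000000000000000000000000000000000000000000000000000000000000000000000000000000000000000000000000000000000000000000000000000000000000000000000000000000000000000000000000000000000000000000000000000000000000000000000000000000000000000000000000000000000000000000000000000000000000000000000000000000000000000000000000000000000000000000000000000000000000000000000000000000000000000000000000000000000000000000000000000000000000000000000000000000000000000000000000000000000000000000000000000000000000000000000000000000000000000000000000000000000000000000000000000000000000000000000000000000000000000000000000000000000000000000000000000000000000000000000000000000000000000000000000000000000000000000000000000000000000000000000000000000000000000000000000000000000000000000000000000000000000000000000000000000000000000000000000000000000000000000000000000000000000000000000000000000000000000000000000000000000000000000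

theorem fix9 : ∀ r ∈ rs9, ∀ b ∈ ([8213, 4850, 4781, 52, 11589, 8003, 8001, 8005, 0] : List ℕ), wordApply (sgnProg pr) r.toWord (2 ^ b) = 2 ^ b := by decide +kernel

theorem M9_eq : grow pr (rs9.map FreeGroup.toWord) 1 (2 ^ 10802) = M9 := by decide +kernel

theorem M9_lt : M9 < 2 ^ 2 ^ 15 := by decide +kernel

theorem M9_cnt : sumRange M9.testBit 15 0 = 2 := by decide +kernel

theorem L9 : 2 * Nat.card (ptStab Phi ([10802, 8213, 4850, 4781, 52, 11589, 8003, 8001, 8005, 0] : List ℕ)) ≤ Nat.card (ptStab Phi ([8213, 4850, 4781, 52, 11589, 8003, 8001, 8005, 0] : List ℕ)) :=
  card_step (M9_eq ▸ sound_ptStab hR hv rs9 fix9 1 10802) M9_lt M9_cnt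

/-- The words of level 10. -/
noncomputable def rs10 : List (FreeGroup Cfsg.Spor.Fi23.Gen) := [
  W [(.b, true), (.d, true), (.c, true), (.e, true), (.h, true), (.d, true), (.h, true), (.e, true), (.c, true), (.d, true), (.i, true), (.f, true), (.e, true), (.d, true), (.c, true), (.g, true), (.f, true), (.h, true), (.d, true), (.e, true), (.d, true), (.h, true), (.f, true), (.g, true), (.c, true), (.d, true), (.e, true), (.f, true), (.b, true), (.c, true), (.b, true), (.i, true), (.d, true), (.c, true), (.e, true), (.h, true), (.d, true), (.h, true), (.e, true), (.c, true), (.d, true), (.i, true), (.f, true), (.e, true), (.d, true), (.c, true), (.g, true), (.f, true), (.h, true), (.d, true), (.e, true), (.d, true), (.h, true), (.f, true), (.g, true), (.c, true), (.d, true), (.e, true), (.f, true), (.d, true), (.c, true), (.e, true), (.h, true), (.d, true), (.h, true), (.e, true), (.c, true), (.d, true), (.i, true), (.f, true), (.e, true), (.d, true), (.c, true), (.g, true), (.f, true), (.h, true), (.d, true), (.e, true), (.d, true), (.h, true), (.f, true), (.g, true), (.c, true), (.d, true), (.e, true), (.f, true), (.b, true), (.c, true), (.b, true), (.i, true), (.d, true), (.c, true), (.e, true), (.h, true), (.d, true), (.h, true), (.e, true),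 (.c, true), (.d, true), (.i, true), (.f, true), (.e, true), (.d, true), (.c, true), (.g, true), (.f, true), (.h, true), (.d, true), (.e, true), (.d, true), (.h, true), (.f, true), (.g, true), (.c, true), (.d, true), (.e, true), (.f, true), (.d, true), (.c, true), (.e, true), (.h, true), (.d, true), (.h, true), (.e, true), (.c, true), (.d, true), (.i, true), (.f, true), (.e, true), (.d, true), (.c, true), (.g, true), (.f, true), (.h, true), (.d, true), (.e, true), (.d, true), (.h, true), (.f, true), (.g, true), (.c, true), (.d, true), (.e, true), (.f, true), (.b, true), (.c, true), (.b, true), (.i, true), (.d, true), (.c, true), (.e, true), (.h, true), (.d, true), (.h, true), (.e, true), (.c, true), (.d, true), (.i, true), (.f, true), (.e, true), (.d, true), (.c, true), (.g, true), (.f, true), (.h, true), (.d, true), (.e, true), (.d, true), (.h, true), (.f, true), (.g, true), (.c, true), (.d, true), (.e, true), (.f, true), (.d, true), (.c, true), (.e, true), (.h, true), (.d, true), (.h, true), (.e, true), (.c, true), (.d, true), (.i, true), (.f, true), (.e, true), (.d, true), (.c, true), (.g, true), (.f, true), (.h, true), (.d, true), (.e, true), (.d, true), (.h, true), (.f, true), (.g, true), (.c, true), (.d, true), (.e, true), (.f, true),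 (.b, true), (.c, true), (.b, true), (.i, true), (.d, true), (.c, true), (.e, true), (.h, true), (.d, true), (.h, true), (.e, true), (.c, true), (.d, true), (.i, true), (.f, true), (.e, true), (.d, true), (.c, true), (.g, true), (.f, true), (.h, true), (.d, true), (.e, true), (.d, true), (.h, true), (.f, true), (.g, true), (.c, true), (.d, true), (.e, true), (.f, true), (.b, true), (.d, true), (.c, true), (.e, true), (.h, true), (.d, true), (.h, true), (.e, true), (.c, true), (.d, true), (.b, true), (.f, true), (.e, true), (.d, true), (.c, true), (.g, true), (.f, true), (.h, true), (.d, true), (.e, true), (.d, true), (.h, true), (.f, true), (.g, true), (.c, true), (.d, true), (.e, true), (.f, true), (.i, true), (.d, true), (.c, true), (.e, true), (.h, true), (.d, true), (.h, true), (.e, true), (.c, true), (.d, true), (.i, true), (.b, true), (.c, true), (.b, true), (.f, true), (.e, true), (.d, true), (.c, true), (.g, true), (.f, true), (.h, true), (.d, true), (.e, true), (.d, true), (.h, true), (.f, true), (.g, true), (.c, true), (.d, true), (.e, true), (.f, true), (.i, true), (.d, true), (.c, true), (.e, true), (.h, true), (.d, true), (.h, true), (.e, true), (.c, true), (.d, true), (.f, true), (.e, true), (.d, true), (.c, true), (.g, true),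 (.f, true), (.h, true), (.d, true), (.e, true), (.d, true), (.h, true), (.f, true), (.g, true), (.c, true), (.d, true), (.e, true), (.f, true), (.i, true), (.d, true), (.c, true), (.e, true), (.h, true), (.d, true), (.h, true), (.e, true), (.c, true), (.d, true), (.i, true), (.b, true), (.c, true), (.b, true), (.f, true), (.e, true), (.d, true), (.c, true), (.g, true), (.f, true), (.h, true), (.d, true), (.e, true), (.d, true), (.h, true), (.f, true), (.g, true), (.c, true), (.d, true), (.e, true), (.f, true), (.i, true), (.d, true), (.c, true), (.e, true), (.h, true), (.d, true), (.h, true), (.e, true), (.c, true), (.d, true), (.f, true), (.e, true), (.d, true), (.c, true), (.g, true), (.f, true), (.h, true), (.d, true), (.e, true), (.d, true), (.h, true), (.f, true), (.g, true), (.c, true), (.d, true), (.e, true), (.f, true), (.i, true), (.d, true), (.c, true), (.e, true), (.h, true), (.d, true), (.h, true), (.e, true), (.c, true), (.d, true), (.i, true), (.b, true), (.c, true), (.b, true), (.f, true), (.e, true), (.d, true), (.c, true), (.g, true), (.f, true), (.h, true), (.d, true), (.e, true), (.d, true), (.h, true), (.f, true), (.g, true), (.c, true), (.d, true), (.e, true), (.f, true), (.i, true), (.d, true), (.c, true), (.e, true),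 (.h, true), (.d, true), (.h, true), (.e, true), (.c, true), (.d, true), (.b, true), (.d, true), (.c, true), (.e, true), (.h, true), (.d, true), (.h, true), (.e, true), (.c, true), (.d, true), (.b, true), (.f, true), (.e, true), (.d, true), (.c, true), (.g, true), (.f, true), (.h, true), (.d, true), (.e, true), (.d, true), (.h, true), (.f, true), (.g, true), (.c, true), (.d, true), (.e, true), (.f, true), (.i, true), (.d, true), (.c, true), (.e, true), (.h, true), (.d, true), (.h, true), (.e, true), (.c, true), (.d, true), (.i, true), (.b, true), (.c, true), (.b, true), (.f, true), (.e, true), (.d, true), (.c, true), (.g, true), (.f, true), (.h, true), (.d, true), (.e, true), (.d, true), (.h, true), (.f, true), (.g, true), (.c, true), (.d, true), (.e, true), (.f, true), (.i, true), (.d, true), (.c, true), (.e, true), (.h, true), (.d, true), (.h, true), (.e, true), (.c, true), (.d, true), (.b, true), (.d, true), (.c, true), (.e, true), (.h, true), (.d, true), (.h, true), (.e, true), (.c, true), (.d, true), (.b, true), (.a, true), (.c, true), (.b, true), (.d, true), (.c, true), (.e, true), (.h, true), (.d, true), (.h, true), (.e, true), (.c, true), (.d, true), (.b, true), (.c, true), (.a, true), (.f, true), (.e, true), (.d, true), (.c, true),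 (.g, true), (.f, true), (.h, true), (.d, true), (.e, true), (.d, true), (.h, true), (.f, true), (.g, true), (.c, true), (.d, true), (.e, true), (.f, true), (.i, true), (.d, true), (.c, true), (.e, true), (.h, true), (.d, true), (.h, true), (.e, true), (.c, true), (.d, true), (.i, true), (.b, true), (.c, true), (.b, true), (.f, true), (.e, true), (.d, true), (.c, true), (.g, true), (.f, true), (.h, true), (.d, true), (.e, true), (.d, true), (.h, true), (.f, true), (.g, true), (.c, true), (.d, true), (.e, true), (.f, true), (.i, true), (.d, true), (.c, true), (.e, true), (.h, true), (.d, true), (.h, true), (.e, true), (.c, true), (.d, true), (.f, true), (.e, true), (.d, true), (.c, true), (.g, true), (.f, true), (.h, true), (.d, true), (.e, true), (.d, true), (.h, true), (.f, true), (.g, true), (.c, true), (.d, true), (.e, true), (.f, true), (.i, true), (.d, true), (.c, true), (.e, true), (.h, true), (.d, true), (.h, true), (.e, true), (.c, true), (.d, true), (.i, true), (.b, true), (.c, true), (.b, true), (.f, true), (.e, true), (.d, true), (.c, true), (.g, true), (.f, true), (.h, true), (.d, true), (.e, true), (.d, true), (.h, true), (.f, true), (.g, true), (.c, true), (.d, true), (.e, true), (.f, true), (.i, true), (.d, true), (.c, true),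 (.e, true), (.h, true), (.d, true), (.h, true), (.e, true), (.c, true), (.d, true), (.f, true), (.e, true), (.d, true), (.c, true), (.g, true), (.f, true), (.h, true), (.d, true), (.e, true), (.d, true), (.h, true), (.f, true), (.g, true), (.c, true), (.d, true), (.e, true), (.f, true), (.i, true), (.d, true), (.c, true), (.e, true), (.h, true), (.d, true), (.h, true), (.e, true), (.c, true), (.d, true), (.i, true), (.b, true), (.c, true), (.b, true), (.f, true), (.e, true), (.d, true), (.c, true), (.g, true), (.f, true), (.h, true), (.d, true), (.e, true), (.d, true), (.h, true), (.f, true), (.g, true), (.c, true), (.d, true), (.e, true), (.f, true), (.i, true), (.d, true), (.c, true), (.e, true), (.h, true), (.d, true), (.h, true), (.e, true), (.c, true), (.d, true), (.a, true), (.c, true), (.b, true), (.d, true), (.c, true), (.e, true), (.h, true), (.d, true), (.h, true), (.e, true), (.c, true), (.d, true), (.b, true), (.c, true), (.a, true), (.b, true), (.d, true), (.c, true), (.e, true), (.h, true), (.d, true), (.h, true), (.e, true), (.c, true), (.d, true), (.b, true), (.f, true), (.e, true), (.d, true), (.c, true), (.g, true), (.f, true), (.h, true), (.d, true), (.e, true), (.d, true), (.h, true), (.f, true), (.g, true), (.c, true),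 (.d, true), (.e, true), (.f, true), (.i, true), (.d, true), (.c, true), (.e, true), (.h, true), (.d, true), (.h, true), (.e, true), (.c, true), (.d, true), (.i, true), (.b, true), (.c, true), (.b, true), (.f, true), (.e, true), (.d, true), (.c, true), (.g, true), (.f, true), (.h, true), (.d, true), (.e, true), (.d, true), (.h, true), (.f, true), (.g, true), (.c, true), (.d, true), (.e, true), (.f, true), (.i, true), (.d, true), (.c, true), (.e, true), (.h, true), (.d, true), (.h, true), (.e, true), (.c, true), (.d, true), (.f, true), (.e, true), (.d, true), (.c, true), (.g, true), (.f, true), (.h, true), (.d, true), (.e, true), (.d, true), (.h, true), (.f, true), (.g, true), (.c, true), (.d, true), (.e, true), (.f, true), (.i, true), (.d, true), (.c, true), (.e, true), (.h, true), (.d, true), (.h, true), (.e, true), (.c, true), (.d, true), (.i, true), (.b, true), (.c, true), (.b, true), (.f, true), (.e, true), (.d, true), (.c, true), (.g, true), (.f, true), (.h, true), (.d, true), (.e, true), (.d, true), (.h, true), (.f, true), (.g, true), (.c, true), (.d, true), (.e, true), (.f, true), (.i, true), (.d, true), (.c, true), (.e, true), (.h, true), (.d, true), (.h, true), (.e, true), (.c, true), (.d, true), (.b, true), (.d, true), (.c, true),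 (.e, true), (.h, true), (.d, true), (.h, true), (.e, true), (.c, true), (.d, true), (.b, true), (.f, true), (.e, true), (.d, true), (.c, true), (.g, true), (.f, true), (.h, true), (.d, true), (.e, true), (.d, true), (.h, true), (.f, true), (.g, true), (.c, true), (.d, true), (.e, true), (.f, true), (.i, true), (.d, true), (.c, true), (.e, true), (.h, true), (.d, true), (.h, true), (.e, true), (.c, true), (.d, true), (.i, true), (.b, true), (.c, true), (.b, true), (.f, true), (.e, true), (.d, true), (.c, true), (.g, true), (.f, true), (.h, true), (.d, true), (.e, true), (.d, true), (.h, true), (.f, true), (.g, true), (.c, true), (.d, true), (.e, true), (.f, true), (.i, true), (.d, true), (.c, true), (.e, true), (.h, true), (.d, true), (.h, true), (.e, true), (.c, true), (.d, true), (.b, true)]]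

/-- The mask of level 10. -/
def M10 : ℕ := nat_lit 0x4000000000000000000000000000000000000000000000000000000000000000000000000000000000000000000000000000000000000000000000000000000000000000000000000000000000000000000000000000000000000000000000000000000000000000000000000000000000000000000000000000000000000000000000000000000000000000000000000000000000000000000000000000000000000000000000000000000000000000000000000000000000000000000000000000000000000000000000000000000000000000000000000000000000000000000000000000000000000000000000000000000000000000000000000000000000000000000000000000000000000000000000000000000000000000000000000000000000000000000000000000000000000000000000000000000000000000000000000000000000000000000000000000000000000000000000000000000000000000000000000000000000000000000000000000000000000000000000000000000000000000000000000000000000000000000000000000000000000000000000000000000000000000000000000000000000000000000000000000000000000000000000000000000000000000000000000000000000000000000000000000000000000000000000000000000000000000000000000000000000000000000000000000000000000000000000000000000000000000000000000000000000000000000000000000000000000000000000000000000000000000000000000000000000000000000000000000000000000000000000000000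000000000000000000000000000000000000000000000000000000000000000000000000000000000000000000000000000000000000000000000000000000000000000000000000000000000000000000000000000000000000000000000000000000000000000000000000000000000000000000000000000000000000000000000000000000000000000000000000000000000000000000000000000000000000000000000000000000000000000000000000000000000000000000000000000000000000000000000000000000000000000000000000000000000000000000000000000000000000000000000000000000000000000000000000000000000000000000000000000000000000000000000040000000000000000000000000000000000000000000000000000000000000000000000000000000000000000000000000000000000000000000000000000000000000000000000000000000000000000000000000000000000000000000000000000000000000000000000000000000000000000000000000000000000000000000000000000000000000000000000000000000000000000000000000000000000000000000000000000000000000000000000000000000000000000000000000000000000000000000000000000000000000000000000000000000000000000000000000000000000000000000000000000000000000000000000000000000000000000000000000000000000000000000000000000000000000000000000000000000000000000000000000000000000000000000000000000000000000000000000000000000000000000000000000000000000000000000000000000000000000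000000000000000000000000000000000000000000000000000000000000000000000000000000000000000000000000000000000000000000000000000000000000000000000000000000000000000000000000000000000000000000000000000000000000000000000000000000000000000000000000000000000000000000000000000000000000000000000000000000000000000000000000000000000000000000000000000000000000000000000000000000000000000000000000000000000000000000000000000000000000000000000000000000000000000000000000000000000000000000000000000000000000000000000000000000000000000000000000000000000000000000000000000000000000000000000000000000000000000000000000000000000000000000000000000000000000000000000000000000000000000000000000000000000000000000000000000000000000000000000000000000000000000000000000000000000000000000000000000000000000000000000000000000000000000000000000000000000000000000000000000000000000000000000000000000000000000000000000000000000000000000000000000000000000000000000000000000000000000000000000000000000000000000000000000000000000000000000000000000000000000000000000000000000000000000000000000000000000000000000000000000000000000000000000000000000000000000000000000000000000000000000000000000000000000000000000000000000000000000000000000000000000000000000000000000000000000000000000000000000000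000000000000000000000000000000000000000000000000000000000000000000000000000000000000000000000000000000000000000000000000000000000000000000000000000000000000000000000000000000000000000000000000000000000000000000000000000000000000000000000000000000000000000000000000000000000000000000000000000000000000000000000000000000000000000000000000000000000000000000000000000000000000000000000000000000000000000000000000000000000000000000000000000000000000000000000000000000000000000000000000000000000000000000000000000000000000000000000000000000000000000000000000000000000000000000000000000000000000000000000000000000000000000000000000000000000000000000000000000000000000000000000000000000000000000000000000000000000000000000000000000000000000000000000000000000000000000000000000000000000000000000000000000000000000000000000000000000000000000000000000000000000000000000000000000000000000000000000000000000000000000000000000000000000000000000000000000000000000000000000000000000000000000000000000000000000000000000000000000000000000000000000000000000000000000000000000000000000000000000000000000000000000000000000000000000000000000000000000000000000000000000000000000000000000000000000000000000000000000000000000000000000000000000000000000000000000000000000000000000000000000000000000000000000000000000000000000000000000000000000000000000000000000000000000000000000000000000000000000000000000000000000000000000000000000000000000000000000000000000000000000000000000000000000000000000000000000000000000000000000000000000000000000000000000000000000000000000000000000000000000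

theorem fix10 : ∀ r ∈ rs10, ∀ b ∈ ([10802, 8213, 4850, 4781, 52, 11589, 8003, 8001, 8005, 0] : List ℕ), wordApply (sgnProg pr) r.toWord (2 ^ b) = 2 ^ b := by decide +kernel

theorem M10_eq : grow pr (rs10.map FreeGroup.toWord) 1 (2 ^ 14118) = M10 := by decide +kernel

theorem M10_lt : M10 < 2 ^ 2 ^ 15 := by decide +kernel

theorem M10_cnt : sumRange M10.testBit 15 0 = 2 := by decide +kernel

theorem L10 : 2 * Nat.card (ptStab Phi ([14118, 10802, 8213, 4850, 4781, 52, 11589, 8003, 8001, 8005, 0] : List ℕ)) ≤ Nat.card (ptStab Phi ([10802, 8213, 4850, 4781, 52, 11589, 8003, 8001, 8005, 0] : List ℕ)) :=
  card_step (M10_eq ▸ sound_ptStab hR hv rs10 fix10 1 14118) M10_lt M10_cnt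

theorem C11 : 1 * Nat.card (ptStab Phi ([14118, 10802, 8213, 4850, 4781, 52, 11589, 8003, 8001, 8005, 0] : List ℕ)) ≤ Nat.card (ptStab Phi ([14118, 10802, 8213, 4850, 4781, 52, 11589, 8003, 8001, 8005, 0] : List ℕ)) := by simp

theorem C10 : (2 * 1) * Nat.card (ptStab Phi ([14118, 10802, 8213, 4850, 4781, 52, 11589, 8003, 8001, 8005, 0] : List ℕ)) ≤ Nat.card (ptStab Phi ([10802, 8213, 4850, 4781, 52, 11589, 8003, 8001, 8005, 0] : List ℕ)) :=
  lower_step L10 C11

theorem C9 : (2 * (2 * 1)) * Nat.card (ptStab Phi ([14118, 10802, 8213, 4850, 4781, 52, 11589, 8003, 8001, 8005, 0] : List ℕ)) ≤ Nat.card (ptStab Phi ([8213, 4850, 4781, 52, 11589, 8003, 8001, 8005, 0] : List ℕ)) :=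
  lower_step L9 C10

theorem C8 : (2 * (2 * (2 * 1))) * Nat.card (ptStab Phi ([14118, 10802, 8213, 4850, 4781, 52, 11589, 8003, 8001, 8005, 0] : List ℕ)) ≤ Nat.card (ptStab Phi ([4850, 4781, 52, 11589, 8003, 8001, 8005, 0] : List ℕ)) :=
  lower_step L8 C9

theorem C7 : (8 * (2 * (2 * (2 * 1)))) * Nat.card (ptStab Phi ([14118, 10802, 8213, 4850, 4781, 52, 11589, 8003, 8001, 8005, 0] : List ℕ)) ≤ Nat.card (ptStab Phi ([4781, 52, 11589, 8003, 8001, 8005, 0] : List ℕ)) :=
  lower_step L7 C8

theorem C6 : (32 * (8 * (2 * (2 * (2 * 1))))) * Nat.card (ptStab Phi ([14118, 10802, 8213, 4850, 4781, 52, 11589, 8003, 8001, 8005, 0] : List ℕ)) ≤ Nat.card (ptStab Phi ([52, 11589, 8003, 8001, 8005, 0] : List ℕ)) :=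
  lower_step L6 C7

theorem C5 : (48 * (32 * (8 * (2 * (2 * (2 * 1)))))) * Nat.card (ptStab Phi ([14118, 10802, 8213, 4850, 4781, 52, 11589, 8003, 8001, 8005, 0] : List ℕ)) ≤ Nat.card (ptStab Phi ([11589, 8003, 8001, 8005, 0] : List ℕ)) :=
  lower_step L5 C6

theorem C4 : (3 * (48 * (32 * (8 * (2 * (2 * (2 * 1))))))) * Nat.card (ptStab Phi ([14118, 10802, 8213, 4850, 4781, 52, 11589, 8003, 8001, 8005, 0] : List ℕ)) ≤ Nat.card (ptStab Phi ([8003, 8001, 8005, 0] : List ℕ)) :=
  lower_step L4 C5

theorem C3 : (180 * (3 * (48 * (32 * (8 * (2 * (2 * (2 * 1)))))))) * Nat.card (ptStab Phi ([14118, 10802, 8213, 4850, 4781, 52, 11589, 8003, 8001, 8005, 0] : List ℕ)) ≤ Nat.card (ptStab Phi ([8001, 8005, 0] : List ℕ)) :=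
  lower_step L3 C4

theorem C2 : (693 * (180 * (3 * (48 * (32 * (8 * (2 * (2 * (2 * 1))))))))) * Nat.card (ptStab Phi ([14118, 10802, 8213, 4850, 4781, 52, 11589, 8003, 8001, 8005, 0] : List ℕ)) ≤ Nat.card (ptStab Phi ([8005, 0] : List ℕ)) :=
  lower_step L2 C3

theorem C1 : (3510 * (693 * (180 * (3 * (48 * (32 * (8 * (2 * (2 * (2 * 1)))))))))) * Nat.card (ptStab Phi ([14118, 10802, 8213, 4850, 4781, 52, 11589, 8003, 8001, 8005, 0] : List ℕ)) ≤ Nat.card (ptStab Phi ([0] : List ℕ)) :=
  lower_step L1 C2

theorem C0 : (31671 * (3510 * (693 * (180 * (3 * (48 * (32 * (8 * (2 * (2 * (2 * 1))))))))))) * Nat.card (ptStab Phi ([14118, 10802, 8213, 4850, 4781, 52, 11589, 8003, 8001, 8005, 0] : List ℕ)) ≤ Nat.card (ptStab Phi ([] : List ℕ)) :=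
  lower_step L0 C1

theorem top_eq : ptStab Phi ([] : List ℕ) = ⊤ := ptStab_nil Phi

theorem card_spec : Nat.card (PresentedGroup RR) = 4089470473293004800 ∧ ∀ g ∈ ptStab Phi ([14118, 10802, 8213, 4850, 4781, 52, 11589, 8003, 8001, 8005, 0] : List ℕ), g = 1 := by
  have h := C0
  rw [top_eq] at h
  exact eq_of_lower (by norm_num) (h.trans' (Nat.mul_le_mul_right _ (by norm_num))) upper.1

end Cfsg.Agent.TcChain36.Fi23
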